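import Groth.Agent.Lib.CohMop.RelExtCoh
import Groth.Agent.Lib.ModM1.Local
import Groth.Agent.Lib.ModM1.Coh
import Groth.Prelude.Def_KLin

/-!
# `Hom(I, Q) / Hom(I, J)` is finite over the base field for coherent modules on a proper scheme
-/

set_option autoImplicit false
set_option linter.style.haveILetI false
set_option linter.unusedSectionVars false
set_option backward.isDefEq.respectTransparency false
set_option backward.isDefEq.respectTransparency.types false

universe u

open CategoryTheory CategoryTheory.Limits AlgebraicGeometry TopologicalSpace Opposite MonoidalCategory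

noncomputable section

namespace Groth.Agent.DefDiag3

open Groth.Agent CohMop

variable {Y : Scheme.{u}}

/-- Tensoring commutes with multiplication by global functions. -/
theorem tenR_map_smulModΓ (I W : Y.Modules) (r : Coh.Γtop Y) :
    (tenR I).map (Formal.smulModΓ W r) = Formal.smulModΓ ((tenR I).obj W) r := by
  let O := Y.sheaf
  let ad := KFlat.Site.adj (C := Y.Opens) O
  let pW := (ModSite.toPre (C := Y.Opens) O).obj W
  let pI := (ModSite.toPre (C := Y.Opens) O).obj I
  refine (ad.homEquiv (pW ⊗ pI) ((tenR I).obj W)).injective ?_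
  show ad.homEquiv (pW ⊗ pI) ((tenR I).obj W) ((ModSite.shPre O).map ((ModSite.toPre O).map (Formal.smulModΓ W r) ▷ pI)) = _
  rw [Adjunction.homEquiv_unit, Adjunction.homEquiv_unit]
  erw [← ad.unit.naturality]
  ext U x
  induction x using TensorProduct.induction_on with
  | zero => erw [map_zero, map_zero]
  | add a b ha hb => erw [map_add, map_add, ha, hb]
  | tmul a b =>
    set ψ := ((ad.unit.app (pW ⊗ pI)).app U).hom
    let c : (O.obj ⋙ forget₂ CommRingCat.{u} RingCat.{u}).obj U :=
      (Y.presheaf.map (homOfLE (le_top : U.unop ≤ ⊤)).op).hom r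
    exact map_smul ψ c (a ⊗ₜ b)

variable {k : Type u} [Field k] [Y.Over (Spec (CommRingCat.of k))]

/-- Tensoring is linear over the base. -/
theorem linear_tenR (I : Y.Modules) : (tenR I).Linear k :=
  (Functor.linear_iff k _).mpr fun W c => by
    rw [KLin.smul_id, KLin.smul_id]
    exact tenR_map_smulModΓ I W _

/-- Internal hom is linear over the base. -/
theorem linear_ihom (I : Y.Modules) : (ihom I).Linear k := by
  haveI := linear_tenR (k := k) I
  refine (Functor.linear_iff k _).mpr fun M a => ?_
  let adj := ihomAdj I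
  refine (adj.homEquiv _ _).symm.injective ?_
  rw [adj.homEquiv_counit, adj.homEquiv_counit, ← Functor.comp_map]
  erw [adj.counit.naturality]
  rw [Functor.id_map, Functor.map_smul, CategoryTheory.Functor.map_id]
  erw [Linear.comp_smul, Category.comp_id, Linear.smul_comp, Category.id_comp]

/-- The tensor product with the structure module. -/
def unitT (I : Y.Modules) : (tenR I).obj (Coh.structureModule Y) ≅ I := M2.tensorLUnit I

/-- A morphism out of `I` as a global section of the internal hom. -/
def eHom (I : Y.Modules) {Q : Y.Modules} (f : I ⟶ Q) : Γ((ihom I).obj Q, ⊤) :=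
  ((ihomAdj I).homEquiv _ _ ((unitT I).hom ≫ f)).app ⊤ (M1.one ⊤)

theorem eHom_injective (I : Y.Modules) {Q : Y.Modules} : Function.Injective (eHom I (Q := Q)) := fun f g h =>
  (cancel_epi (unitT I).hom).1 (((ihomAdj I).homEquiv _ _).injective (M1.unit_hom_ext h))

theorem eHom_surjective (I : Y.Modules) {Q : Y.Modules} : Function.Surjective (eHom I (Q := Q)) := fun s =>
  ⟨(unitT I).inv ≫ ((ihomAdj I).homEquiv _ _).symm (M1.secHom s), by
    rw [eHom, Iso.hom_inv_id_assoc, Equiv.apply_symm_apply, M1.secHom_app_one]⟩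

theorem eHom_comp (I : Y.Modules) {Q Q' : Y.Modules} (f : I ⟶ Q) (g : Q ⟶ Q') :
    eHom I (f ≫ g) = ((ihom I).map g).app ⊤ (eHom I f) := by
  rw [eHom, ← Category.assoc, Adjunction.homEquiv_naturality_right]
  rfl

theorem eHom_add (I : Y.Modules) {Q : Y.Modules} (f g : I ⟶ Q) : eHom I (f + g) = eHom I f + eHom I g := by
  haveI : (ihom I).Additive := inferInstance
  unfold eHom
  rw [Preadditive.comp_add, Adjunction.homEquiv_unit, Functor.map_add, Preadditive.comp_add,
    ← Adjunction.homEquiv_unit, ← Adjunction.homEquiv_unit]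
  rfl

theorem eHom_smul (I : Y.Modules) {Q : Y.Modules} (c : k) (f : I ⟶ Q) :
    eHom I (c • f) = (show Γ(Y, ⊤) from Coh.toGlobal (Y ↘ Spec (CommRingCat.of k)) c) • eHom I f := by
  haveI := linear_ihom (k := k) I
  unfold eHom
  rw [Linear.comp_smul, Adjunction.homEquiv_unit, Functor.map_smul, Linear.comp_smul, KLin.smul_app_apply,
    ← Adjunction.homEquiv_unit]
  congr 1
  exact congrArg (fun t : Y.presheaf.obj (op ⊤) ⟶ Y.presheaf.obj (op ⊤) => t.hom _) (Y.presheaf.map_id _)

variable {I D J Q : Y.Modules} (ι : D ⟶ J) (π : J ⟶ Q)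

/-- Composition with `π`, linearly over the base. -/
def compL : (I ⟶ J) →ₗ[k] (I ⟶ Q) := Linear.rightComp k I π

/-- `Hom(I, Q) / Hom(I, J)` is finite-dimensional. -/
theorem finite_homQuot [IsProper (Y ↘ Spec (CommRingCat.of k))] [Injective J] (w : ι ≫ π = 0)
    (hS : (ShortComplex.mk ι π w).ShortExact) (hI : Coh.IsCoh I) (hD : Coh.IsCoh D) :
    Module.Finite k ((I ⟶ Q) ⧸ LinearMap.range (compL (k := k) (I := I) π)) := by
  classical
  let f := Y ↘ Spec (CommRingCat.of k)
  let P := ihom I ⋙ Scheme.Modules.pushforward f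
  haveI : P.Additive := inferInstance
  haveI : PreservesFiniteLimits P :=
    haveI : PreservesLimitsOfSize.{0, 0} (Scheme.Modules.pushforward f) :=
      (Scheme.Modules.pullbackPushforwardAdjunction f).rightAdjoint_preservesLimits
    haveI : PreservesFiniteLimits (Scheme.Modules.pushforward f) := PreservesLimitsOfSize.preservesFiniteLimits _
    haveI : PreservesFiniteLimits (ihom I) := PreservesLimitsOfSize.preservesFiniteLimits _
    comp_preservesFiniteLimits _ _
  have hJ : RFPlus.IsAcyclicObj P J := fun j hj => by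
    obtain ⟨j, rfl⟩ := Nat.exists_eq_succ_of_ne_zero hj.ne'
    exact P.isZero_rightDerived_obj_injective_succ j J
  obtain ⟨e⟩ := nonempty_cokernel_iso_quot P hS hJ
  let C := cokernel (P.map π)
  have hC : Coh.IsCoh C := isCoh_of_iso e.symm (isCoh_relExt f hI hD 1)
  let π' : P.obj Q ⟶ C := cokernel.π _
  -- scalars
  let str : k →+* Γ(Spec (CommRingCat.of k), ⊤) := (Scheme.ΓSpecIso (CommRingCat.of k)).inv.hom
  letI : Module k Γ(C, ⊤) := Module.compHom _ str
  haveI : Module.Finite k Γ(C, ⊤) := by
    haveI := M1.finite_sections hC.1 hC.2 (isAffineOpen_top (Spec (CommRingCat.of k)))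
    letI : Algebra k Γ(Spec (CommRingCat.of k), ⊤) := str.toAlgebra
    haveI : IsScalarTower k Γ(Spec (CommRingCat.of k), ⊤) Γ(C, ⊤) := IsScalarTower.of_algebraMap_smul fun _ _ => rfl
    haveI : Module.Finite k Γ(Spec (CommRingCat.of k), ⊤) :=
      Module.Finite.of_surjective (Algebra.linearMap k _)
        (ConcreteCategory.bijective_of_isIso (Scheme.ΓSpecIso (CommRingCat.of k)).inv).2
    exact Module.Finite.trans Γ(Spec (CommRingCat.of k), ⊤) _
  let Φ : (I ⟶ Q) →ₗ[k] Γ(C, ⊤) :=
    { toFun := fun g => π'.app ⊤ (eHom I g : Γ(P.obj Q, ⊤))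
      map_add' := fun a b => by
        rw [eHom_add]
        exact map_add (π'.app ⊤).hom (eHom I a : Γ(P.obj Q, ⊤)) _
      map_smul' := fun c g => by
        rw [RingHom.id_apply, eHom_smul]
        show π'.app ⊤ _ = str c • π'.app ⊤ (eHom I g : Γ(P.obj Q, ⊤))
        rw [← Scheme.Modules.Hom.app_smul]
        rfl }
  have hker : LinearMap.ker Φ ≤ LinearMap.range (compL (k := k) (I := I) π) := by
    intro g hg
    let m := Abelian.factorThruImage (P.map π)
    obtain ⟨t, ht⟩ := M1.sections_exact (S := ShortComplex.mk (kernel.ι π') π' (kernel.condition π'))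
      (ShortComplex.exact_kernel π') ⊤ (eHom I g : Γ(P.obj Q, ⊤)) hg
    obtain ⟨V, hV, hp, s, hs⟩ := (M1.epi_iff_locally_surjective m).1 inferInstance ⊤ t (IsLocalRing.closedPoint k) trivial
    obtain rfl : V = ⊤ := top_le_iff.1 fun p _ => by
      rwa [show p = IsLocalRing.closedPoint k from Subsingleton.elim (α := PrimeSpectrum k) _ _]
    have hfac : (P.map π).app ⊤ s = (eHom I g : Γ(P.obj Q, ⊤)) := by
      rw [← Abelian.image.fac (P.map π)]
      show (Abelian.image.ι (P.map π)).app ⊤ (m.app ⊤ s) = _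
      rw [hs]
      erw [(Abelian.image (P.map π)).presheaf.map_id]
      exact ht
    obtain ⟨h, hh⟩ := eHom_surjective I (s : Γ((ihom I).obj J, ⊤))
    refine ⟨h, eHom_injective I ?_⟩
    show eHom I (h ≫ π) = _
    rw [eHom_comp, hh]
    exact hfac
  refine Module.Finite.of_injective (Submodule.liftQ _ Φ ?_) ?_
  · rintro _ ⟨h, rfl⟩
    show π'.app ⊤ (eHom I (h ≫ π) : Γ(P.obj Q, ⊤)) = 0
    rw [eHom_comp]
    show (P.map π ≫ π').app ⊤ (eHom I h : Γ(P.obj J, ⊤)) = 0
    rw [cokernel.condition]
    rfl
  · rw [← LinearMap.ker_eq_bot]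
    exact Submodule.ker_liftQ_eq_bot _ _ _ hker

end Groth.Agent.DefDiag3
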