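import Groth.Agent.Lib.DefDiag3.Local
import Groth.Agent.Lib.ModLimH13.Sections
import Groth.Agent.Lib.DefGlue3.Glue
import Groth.Prelude.Def_KLin

/-!
# Functoriality of the diagonal module, linearity in the maximal ideal
-/

set_option autoImplicit false
set_option linter.style.haveILetI false
set_option backward.isDefEq.respectTransparency false

universe u

open CategoryTheory CategoryTheory.Limits AlgebraicGeometry TopologicalSpace Opposite

noncomputable section

namespace Groth.Agent.DefDiag3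

open Groth.Agent ArtFun ThickAff3 DefGlue3

variable {Λ k : Type u} [CommRing Λ] [Field k] [Algebra Λ k]
variable {X : Scheme.{u}} {x : X ⟶ Spec (CommRingCat.of k)} [IsSeparated x]
variable {A B : Art Λ k} {φ : A ⟶ B} {ξ : DefSch X x A} {η : DefSch X x B} {g : η.total ⟶ ξ.total}
  (hg : Over' φ ξ η g) (sA : Sct A) (sB : Sct B) (hs : ∀ c, φ (sA.σ c) = sB.σ c)

include hg hs in
omit [IsSeparated x] in
theorem g_tT : g ≫ tT sA ξ = tT sB η := by
  rw [tT, tT, ← Category.assoc, hg.w, Category.assoc]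
  show η.f ≫ Spec.map _ ≫ Spec.map _ = _
  rw [← Spec.map_comp]
  exact congrArg (η.f ≫ ·) (congrArg Spec.map (CommRingCat.hom_ext (RingHom.ext hs)))

/-- The map `X ×ₖ T' → X ×ₖ T`. -/
def hP : P sB η ⟶ P sA ξ :=
  pullback.map x (tT sB η) x (tT sA ξ) (𝟙 _) g (𝟙 _) (by simp) (by simp [g_tT hg sA sB hs])

@[reassoc]
theorem j_hP : j sB η ≫ hP hg sA sB hs = j sA ξ := by
  apply pullback.hom_ext <;> simp [hP, j, hg.hi]

@[reassoc]
theorem delta_hP : delta sB η ≫ hP hg sA sB hs = delta sA ξ := by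
  rw [delta, Category.assoc, j_hP]
  rfl

theorem hP_f : hP hg sA sB hs ≫ (diag sA ξ).f = (diag sB η).f ≫ Art.specMap φ := by
  show hP hg sA sB hs ≫ pullback.snd _ _ ≫ ξ.f = (pullback.snd _ _ ≫ η.f) ≫ _
  rw [hP, pullback.lift_snd_assoc, Category.assoc, Category.assoc, hg.w]

theorem le_map' : (delta sA ξ).ker ≤ (delta sB η).ker.map (hP hg sA sB hs) :=
  le_of_eq (by rw [← Scheme.Hom.ker_comp, delta_hP])

/-- The induced morphism of diagonal modules. -/
def Emap : Emod sA ξ ⟶ Emod sB η :=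
  (ModLimH13.cmp (j sB η) (hP hg sA sB hs) (j_hP hg sA sB hs)).inv.app _ ≫
    (Scheme.Modules.pullback (j sB η)).map (ConormalBC19.psi (hP hg sA sB hs) _ _ (le_map' hg sA sB hs))

/-- The image of a section of the ideal of `δ`. -/
def imgK {U : (P sA ξ).Opens} (a : Γ(K sA ξ, U)) : Γ(K sB η, hP hg sA sB hs ⁻¹ᵁ U) :=
  (ConormalBC19.psi (hP hg sA sB hs) _ _ (le_map' hg sA sB hs)).app _ (uSec _ _ a)

theorem incl_imgK {U : (P sA ξ).Opens} (a : Γ(K sA ξ, U)) :
    M2.idealIncl (delta sB η).ker (imgK hg sA sB hs a) =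
      (hP hg sA sB hs).app U (M2.idealIncl (delta sA ξ).ker a) :=
  psi_uSec _ _ _ _ a

theorem pre_le (U : (P sA ξ).Opens) : j sA ξ ⁻¹ᵁ U ≤ j sB η ⁻¹ᵁ (hP hg sA sB hs ⁻¹ᵁ U) := by
  rw [← Scheme.Hom.comp_preimage, j_hP]

theorem Emap_eSec {U : (P sA ξ).Opens} (a : Γ(K sA ξ, U)) :
    (Emap hg sA sB hs).app (j sA ξ ⁻¹ᵁ U) (eSec sA ξ a) =
      M1.mres _ (pre_le hg sA sB hs U) (eSec sB η (imgK hg sA sB hs a)) := by
  let p := j sB η
  let h := hP hg sA sB hs
  let M := K sA ξ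
  let d := ModLimH13.cmp p h (j_hP hg sA sB hs)
  let ψ := ConormalBC19.psi h _ _ (le_map' hg sA sB hs)
  let a' : Γ((Scheme.Modules.pullback p).obj ((Scheme.Modules.pullback h).obj M), j sA ξ ⁻¹ᵁ U) :=
    ModLimH13.res' p _ (pre_le hg sA sB hs U) (ModLimH13.res' h M (le_rfl : h ⁻¹ᵁ U ≤ _) a)
  have hc : (d.hom.app M).app _ a' = eSec sA ξ a :=
    (ModLimH13.cmp_res' p h M (j_hP hg sA sB hs) le_rfl (pre_le hg sA sB hs U) a).trans (M1.mres_id _ _ _)
  rw [← hc]
  show ((Scheme.Modules.pullback p).map ψ).app _ ((d.inv.app M).app _ ((d.hom.app M).app _ a')) = _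
  rw [show (d.inv.app M).app _ ((d.hom.app M).app _ a') = a' from
    congrArg (fun χ => χ.app _ a') (d.hom_inv_id_app M)]
  refine (ModLimH13.map_res' p _ _ ψ _).trans ?_
  show M1.mres _ _ (uSec p _ (ψ.app _ (M1.mres _ le_rfl (uSec h M a)))) = _
  rw [M1.mres_id]
  rfl

theorem Emap_comp_qE : Emap hg sA sB hs ≫ qE sB η = qE sA ξ := by
  refine hom_ext_uSec (j sA ξ) fun U a => M2.idealIncl_injective _ _ ?_
  show M2.idealIncl _ ((qE sB η).app _ ((Emap hg sA sB hs).app _ (eSec sA ξ a))) = _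
  rw [Emap_eSec, M1.app_mres]
  refine (M2.idealIncl_res _ (pre_le hg sA sB hs U) _).trans ?_
  rw [qE_eSec, incl_imgK]
  refine Eq.trans ?_ (qE_eSec sA ξ a).symm
  generalize M2.idealIncl (delta sA ξ).ker a = z
  show (((hP hg sA sB hs).app U ≫ (j sB η).app _) ≫ _).hom z = _
  rw [← Scheme.Hom.comp_app, Scheme.Hom.congr_app (j_hP hg sA sB hs) U]
  simp only [Category.assoc, ← Functor.map_comp]
  exact congrArg (fun m => ((j sA ξ).app U ≫ m).hom z) ((pullback x x).presheaf.map_id _)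

theorem res_map (a : A) : B.res (φ a) = A.res a := DFunLike.congr_fun φ.res_comp a

theorem sig_comp_Emap (a : A) (ha : A.res a = 0) :
    sig sA ξ a ha ≫ Emap hg sA sB hs = sig sB η (φ a) ((res_map a).trans ha) := by
  refine M1.unit_hom_ext ?_
  show (Emap hg sA sB hs).app (j sA ξ ⁻¹ᵁ ⊤) ((sig sA ξ a ha).app _ (M1.one _)) = _
  rw [sig_app_one, Emap_eSec]
  refine Eq.trans (M1.mres_id _ _ _) ?_
  rw [sig, M1.secHom_app_one]
  refine congrArg (eSec sB η) (M2.idealIncl_injective _ _ ?_)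
  rw [incl_imgK, incl_scSec]
  refine (app_str _ _ φ.toAlgHom.toRingHom _ (hP_f hg sA sB hs) ⊤ a).trans ?_
  exact (incl_scSec sB η ⊤ (φ a) ((res_map a).trans ha)).symm

theorem sE_comp_Emap (a : A) (ha : A.res a = 0) :
    sE sA ξ a ha ≫ Emap hg sA sB hs = sE sB η (φ a) ((res_map a).trans ha) := by
  rw [← cancel_epi (cokernel.π (ClSub.idealModι (pullback.diagonal x).ker)), π_sE_assoc, π_sE, sig_comp_Emap]

/-- `X ×ₖ X` as a scheme over `k`. -/
@[reducible] def overYY (x : X ⟶ Spec (CommRingCat.of k)) : (pullback x x).Over (Spec (CommRingCat.of k)) :=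
  ⟨pullback.snd x x ≫ x⟩

attribute [local instance] overYY

theorem sE_add (a b : A) (ha : A.res a = 0) (hb : A.res b = 0) :
    sE sA ξ (a + b) (by rw [map_add, ha, hb, add_zero]) = sE sA ξ a ha + sE sA ξ b hb := by
  rw [← cancel_epi (cokernel.π (ClSub.idealModι (pullback.diagonal x).ker)), Preadditive.comp_add, π_sE, π_sE, π_sE]
  refine M1.unit_hom_ext ?_
  show _ = (sig sA ξ a ha).app ⊤ (M1.one ⊤) + (sig sA ξ b hb).app ⊤ (M1.one ⊤)
  rw [sig, sig, sig, M1.secHom_app_one, M1.secHom_app_one, M1.secHom_app_one]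
  refine (congrArg (eSec sA ξ) (M2.idealIncl_injective _ _ ?_)).trans (uSec_add _ _ _ _)
  rw [M2.idealIncl_add, incl_scSec, incl_scSec, incl_scSec, map_add]

theorem sE_congr {a b : A} (h : a = b) (ha : A.res a = 0) (hb : A.res b = 0) :
    sE sA ξ a ha = sE sA ξ b hb := by
  subst h; rfl

theorem sE_smul (c : k) (a : A) (ha : A.res a = 0) :
    sE sA ξ (sA.σ c * a) (by rw [map_mul, ha, mul_zero]) = c • sE sA ξ a ha := by
  rw [← cancel_epi (cokernel.π (ClSub.idealModι (pullback.diagonal x).ker)), Linear.comp_smul, π_sE, π_sE]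
  refine M1.unit_hom_ext ?_
  rw [KLin.smul_app_apply, sig, sig, M1.secHom_app_one, M1.secHom_app_one]
  refine (congrArg (eSec sA ξ) (M2.idealIncl_injective _ _ ?_)).trans
    ((eSec_smul sA ξ (sc sA ξ ⊤ (sA.σ c)) _).trans (congrArg (· • _) ?_))
  · rw [M2.idealIncl_smul, incl_scSec, incl_scSec, map_mul]
  · rw [j_app_sc, sA.res_σ]
    exact (res_str (pullback.snd x x ≫ x) (le_top : (⊤ : (pullback x x).Opens) ≤ ⊤) c).symm.trans
      (congrArg _ (by
        show ((Scheme.ΓSpecIso (CommRingCat.of k)).inv ≫ (pullback.snd x x ≫ x).appLE ⊤ ⊤ le_top).hom c = _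
        simp [Scheme.Hom.appLE, Scheme.Hom.appTop, Coh.toGlobal]
        rfl))

end Groth.Agent.DefDiag3
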