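import Groth.Agent.Lib.DefDiag3.Hom
import Groth.Agent.Lib.DefDiag3.Map
import Groth.Agent.Lib.DefGlue3.AffineTangent
import Groth.Agent.Lib.CurveCoh17.Twist

/-!
# The class of a first order deformation in `Ext¹(I_Δ, O_Δ)`
-/

set_option autoImplicit false
set_option linter.style.haveILetI false
set_option linter.unusedSectionVars false
set_option backward.isDefEq.respectTransparency false

universe u

open CategoryTheory CategoryTheory.Limits AlgebraicGeometry TopologicalSpace Opposite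

noncomputable section

namespace Groth.Agent.DefDiag3

open Groth.Agent ArtFun ThickAff3 DefGlue3

attribute [local instance] overYY

variable {Λ k : Type u} [CommRing Λ] [Field k] [Algebra Λ k]
variable {X : Scheme.{u}} {x : X ⟶ Spec (CommRingCat.of k)} [IsSeparated x]

variable (x) in
/-- An injective module containing the diagonal. -/
abbrev JΔ : (pullback x x).Modules := Injective.under (DΔ x)

variable (x) in
/-- The inclusion. -/
abbrev ιΔ : DΔ x ⟶ JΔ x := Injective.ι (DΔ x)

variable (x) in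
/-- The quotient. -/
abbrev πΔ : JΔ x ⟶ cokernel (ιΔ x) := cokernel.π (ιΔ x)

variable {A B : Art Λ k} (s : Sct A) (ξ : DefSch X x A)

/-- `(Φ, c)` represents the class of `ξ` pushed along `L`. -/
structure Rep (L : A → k) : Type u where
  Φ : Emod s ξ ⟶ JΔ x
  c : IΔ x ⟶ cokernel (ιΔ x)
  spec : ∀ a ha, sE s ξ a ha ≫ Φ = L a • ιΔ x
  fac : qE s ξ ≫ c = Φ ≫ πΔ x

variable {s ξ}

theorem Rep.sub_mem {L L' : A → k} (R : Rep s ξ L) (R' : Rep s ξ L') (h : ∀ a, A.res a = 0 → L a = L' a) :
    R.c - R'.c ∈ LinearMap.range (compL (k := k) (I := IΔ x) (πΔ x)) := by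
  obtain ⟨d, hd⟩ := exists_desc s ξ (R.Φ - R'.Φ) fun a ha => by
    rw [Preadditive.comp_sub, R.spec, R'.spec, h a ha, sub_self]
  refine ⟨d, (cancel_epi (qE s ξ)).1 ?_⟩
  show qE s ξ ≫ (d ≫ πΔ x) = _
  rw [← Category.assoc, hd, Preadditive.comp_sub, R.fac, R'.fac, Preadditive.sub_comp]

theorem exists_rep (L : A → k) (Φ : Emod s ξ ⟶ JΔ x) (h : ∀ a ha, sE s ξ a ha ≫ Φ = L a • ιΔ x) :
    Nonempty (Rep s ξ L) := by
  obtain ⟨c, hc⟩ := exists_desc s ξ (Φ ≫ πΔ x) fun a ha => by
    rw [← Category.assoc, h, Linear.smul_comp, cokernel.condition, smul_zero]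
  exact ⟨⟨Φ, c, h, hc⟩⟩

/-- Pullback of a representative along a morphism of deformations. -/
def Rep.pull {φ : A ⟶ B} {η : DefSch X x B} {g : η.total ⟶ ξ.total} (hg : Over' φ ξ η g) {sB : Sct B}
    (hs : ∀ c, φ (s.σ c) = sB.σ c) {L : B → k} (R : Rep sB η L) : Rep s ξ fun a => L (φ a) where
  Φ := Emap hg s sB hs ≫ R.Φ
  c := R.c
  spec a ha := by rw [← Category.assoc, sE_comp_Emap, R.spec]
  fac := by rw [← Emap_comp_qE hg s sB hs, Category.assoc, R.fac, Category.assoc]

variable (x) in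
/-- The target of the class map. -/
abbrev Tgt : Type u := (IΔ x ⟶ cokernel (ιΔ x)) ⧸ LinearMap.range (compL (k := k) (I := IΔ x) (πΔ x))

theorem Rep.mk_eq {L L' : A → k} (R : Rep s ξ L) (R' : Rep s ξ L') (h : ∀ a, A.res a = 0 → L a = L' a) :
    (Submodule.Quotient.mk R.c : Tgt x) = Submodule.Quotient.mk R'.c :=
  (Submodule.Quotient.eq _).2 (R.sub_mem R' h)

section dual

/-- `ε`. -/
def eps : Art.dual Λ k := (TrivSqZeroExt.inr 1 : DualNumber k)

theorem res_eps : (Art.dual Λ k).res (eps (Λ := Λ) (k := k)) = 0 := TrivSqZeroExt.fst_inr k (1 : k)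

theorem dual_ext_eq (a : DualNumber k) (ha : TrivSqZeroExt.fst a = 0) :
    a = TrivSqZeroExt.inl (TrivSqZeroExt.snd a) * TrivSqZeroExt.inr 1 := by
  ext <;> simp [ha]

theorem eq_smul_eps {a : Art.dual Λ k} (ha : (Art.dual Λ k).res a = 0) :
    a = (Sct.dual (Λ := Λ)).σ (TrivSqZeroExt.snd a) * eps :=
  dual_ext_eq (show DualNumber k from a) ha

theorem dual_ann (r : DualNumber k) (hr : TrivSqZeroExt.inr 1 * r = 0) : TrivSqZeroExt.fst r = 0 := by
  have := congrArg TrivSqZeroExt.snd hr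
  simpa using this

theorem maximalIdeal_dual : IsLocalRing.maximalIdeal (Art.dual Λ k) = Ideal.span {eps (Λ := Λ) (k := k)} := by
  refine le_antisymm (fun a ha => ?_) ?_
  · rw [eq_smul_eps (RingHom.mem_ker.1 ((DefGlue3.ker_res _).ge ha))]
    exact Ideal.mem_span_singleton.2 (Dvd.intro_left _ rfl)
  · rw [Ideal.span_le, Set.singleton_subset_iff]
    exact (DefGlue3.ker_res _).le (RingHom.mem_ker.2 res_eps)

theorem ann_eps (r : Art.dual Λ k) (hr : eps * r = 0) : r ∈ IsLocalRing.maximalIdeal (Art.dual Λ k) :=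
  (DefGlue3.ker_res _).le (RingHom.mem_ker.2 (dual_ann (show DualNumber k from r) hr))

variable (η : DefSch X x (Art.dual Λ k))

instance mono_sE_eps : Mono (sE Sct.dual η eps res_eps) :=
  mono_sE Sct.dual η eps res_eps maximalIdeal_dual ann_eps

theorem sE_eq_smul (a : Art.dual Λ k) (ha : (Art.dual Λ k).res a = 0) :
    sE Sct.dual η a ha = (TrivSqZeroExt.snd a : k) • sE Sct.dual η eps res_eps :=
  (sE_congr Sct.dual (eq_smul_eps ha) ha _).trans (sE_smul Sct.dual _ eps res_eps)

theorem nonempty_rep : Nonempty (Rep Sct.dual η fun a => TrivSqZeroExt.snd a) :=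
  exists_rep _ (Injective.factorThru (ιΔ x) (sE Sct.dual η eps res_eps)) fun a ha => by
    rw [sE_eq_smul, Linear.smul_comp, Injective.comp_factorThru]

/-- The class of a first order deformation. -/
def cls : Tgt x := Submodule.Quotient.mk (nonempty_rep η).some.c

theorem cls_eq_mk (R : Rep Sct.dual η fun a => TrivSqZeroExt.snd a) : cls η = Submodule.Quotient.mk R.c :=
  Rep.mk_eq _ R fun _ _ => rfl

theorem cls_eq_of_iso {η η' : DefSch X x (Art.dual Λ k)} (u : η.Iso η') : cls η = cls η' := by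
  have hu : Over' (𝟙 (Art.dual Λ k)) η' η u.iso.hom :=
    ⟨by rw [u.hom_f, Art.specMap_id, Category.comp_id], u.i_hom⟩
  exact ((cls_eq_mk η' ((nonempty_rep η).some.pull hu (fun _ => rfl)))).symm

/-- The class on isomorphism classes. -/
def clsQ : (defFunctor (Λ := Λ) X x).obj (Art.dual Λ k) → Tgt x :=
  Quotient.lift cls fun _ _ ⟨u⟩ => cls_eq_of_iso u

/-- The class with zero: a retraction of the diagonal module. -/
theorem exists_retraction (h : cls η = 0) :
    ∃ r : Emod Sct.dual η ⟶ DΔ x, sE Sct.dual η eps res_eps ≫ r = 𝟙 _ := by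
  let R := (nonempty_rep η).some
  obtain ⟨d, hd⟩ := (Submodule.Quotient.mk_eq_zero _).1 h
  have hz : (R.Φ - qE Sct.dual η ≫ d) ≫ πΔ x = 0 := by
    rw [Preadditive.sub_comp, Category.assoc, show d ≫ πΔ x = R.c from hd, R.fac, sub_self]
  let S := ShortComplex.mk (ιΔ x) (πΔ x) (cokernel.condition _)
  have hS : S.Exact := ShortComplex.exact_cokernel _
  refine ⟨hS.lift _ hz, (cancel_mono (ιΔ x)).1 ?_⟩
  rw [Category.assoc, show hS.lift _ hz ≫ ιΔ x = _ from hS.lift_f _ hz, Preadditive.comp_sub, ← Category.assoc,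
    sE_comp_qE, zero_comp, sub_zero, R.spec, Category.id_comp]
  simp [eps]

end dual

theorem tnDual_inl {n : ℕ} (L : (Fin n → k) →ₗ[k] k) (c : k) :
    (ArtFunLib.tnDual (Λ := Λ) L) ((Sct.tn (Λ := Λ) n).σ c) = (Sct.dual (Λ := Λ)).σ c :=
  TrivSqZeroExt.ext (R := k) (M := k) rfl (map_zero L)

theorem clsQ_baseChange {n : ℕ} (ξ : DefSch X x (ArtFunLib.tn Λ k n)) :
    ∃ v : Fin n → Tgt x, ∀ L : (Fin n → k) →ₗ[k] k,
      clsQ ((defFunctor X x).map (ArtFunLib.tnDual L) ξ.cl) = ∑ i, L (Pi.single i 1) • v i := by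
  classical
  let rep : ∀ L : (Fin n → k) →ₗ[k] k, Rep (Sct.tn n) ξ fun a => L (TrivSqZeroExt.snd a) := fun L =>
    (nonempty_rep (ξ.baseChange (ArtFunLib.tnDual (Λ := Λ) L))).some.pull (Over'.bc ξ (ArtFunLib.tnDual L))
      (s := Sct.tn n) (sB := Sct.dual) (fun c => tnDual_inl L c)
  refine ⟨fun i => Submodule.Quotient.mk (rep (LinearMap.proj i)).c, fun L => ?_⟩
  let R : Rep (Sct.tn n) ξ fun a => ∑ i, L (Pi.single i 1) * (LinearMap.proj i : (Fin n → k) →ₗ[k] k) (TrivSqZeroExt.snd a) :=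
    { Φ := ∑ i, L (Pi.single i 1) • (rep (LinearMap.proj i)).Φ
      c := ∑ i, L (Pi.single i 1) • (rep (LinearMap.proj i)).c
      spec := fun a ha => by
        rw [Preadditive.comp_sum, Finset.sum_smul]
        refine Finset.sum_congr rfl fun i _ => ?_
        rw [Linear.comp_smul, (rep (LinearMap.proj i)).spec, smul_smul]
      fac := by
        rw [Preadditive.comp_sum, Preadditive.sum_comp]
        refine Finset.sum_congr rfl fun i _ => ?_
        rw [Linear.comp_smul, (rep (LinearMap.proj i)).fac, Linear.smul_comp] }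
  refine Eq.trans ?_ ((Rep.mk_eq (rep L) R fun a _ => ?_).trans ?_)
  · rfl
  · show L (TrivSqZeroExt.snd a) = _
    conv_lhs => rw [pi_eq_sum_univ (TrivSqZeroExt.snd a : Fin n → k)]
    rw [map_sum]
    refine Finset.sum_congr rfl fun i _ => ?_
    rw [map_smul, smul_eq_mul, mul_comm]
    congr 2
    funext j
    simp [Pi.single_apply, eq_comm]
  · show Submodule.mkQ _ (∑ i, L (Pi.single i 1) • (rep (LinearMap.proj i)).c) = _
    rw [map_sum]
    simp only [map_smul, Submodule.mkQ_apply]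

/-- The class is linear. -/
def clsLin [TangentStr (defFunctor (Λ := Λ) X x)] : TangentSpace (defFunctor (Λ := Λ) X x) →ₗ[k] Tgt x where
  toFun := fun a => clsQ a.val
  map_add' a b := by
    obtain ⟨z, hz⟩ := (ArtFunLib.tnProj_bijective (h0 (Λ := Λ) (X := X) (x := x)) heps 2).2 ![a.val, b.val]
    induction z using Quotient.inductionOn with
    | h ξ =>
    obtain ⟨v, hv⟩ := clsQ_baseChange ξ
    have hadd := (ArtFunLib.evT ξ.cl).map_add (LinearMap.proj (0 : Fin 2)) (LinearMap.proj 1)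
    have ea : a = ArtFunLib.evT ξ.cl (LinearMap.proj (0 : Fin 2)) := (congrFun hz 0).symm
    have eb : b = ArtFunLib.evT ξ.cl (LinearMap.proj (1 : Fin 2)) := (congrFun hz 1).symm
    rw [ea, eb, ← hadd]
    refine (hv _).trans ((Eq.trans ?_ (congrArg₂ (· + ·) (hv _) (hv _)).symm))
    rw [← Finset.sum_add_distrib]
    refine Finset.sum_congr rfl fun i _ => ?_
    rw [LinearMap.add_apply, add_smul]
  map_smul' c a := by
    obtain ⟨z, hz⟩ := (ArtFunLib.tnProj_bijective (h0 (Λ := Λ) (X := X) (x := x)) heps 1).2 ![a.val]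
    induction z using Quotient.inductionOn with
    | h ξ =>
    obtain ⟨v, hv⟩ := clsQ_baseChange ξ
    have hs := (ArtFunLib.evT ξ.cl).map_smul c (LinearMap.proj (0 : Fin 1))
    have ea : a = ArtFunLib.evT ξ.cl (LinearMap.proj (0 : Fin 1)) := (congrFun hz 0).symm
    rw [ea, ← hs, RingHom.id_apply]
    refine (hv _).trans ((Eq.trans ?_ (congrArg (c • ·) (hv _)).symm))
    rw [Finset.smul_sum]
    refine Finset.sum_congr rfl fun i _ => ?_
    rw [LinearMap.smul_apply, smul_eq_mul, mul_smul]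

/-- The target is finite-dimensional for proper schemes. -/
theorem finite_tgt [IsProper x] : Module.Finite k (Tgt x) := by
  haveI : IsProper (pullback.snd x x) := MorphismProperty.pullback_snd _ _ inferInstance
  haveI : IsProper ((pullback x x) ↘ Spec (CommRingCat.of k)) :=
    inferInstanceAs (IsProper (pullback.snd x x ≫ x))
  haveI : IsLocallyNoetherian (pullback x x) :=
    LocallyOfFiniteType.isLocallyNoetherian ((pullback x x) ↘ Spec (CommRingCat.of k))
  haveI : CompactSpace ↥(pullback x x) :=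
    QuasiCompact.compactSpace_of_compactSpace ((pullback x x) ↘ Spec (CommRingCat.of k))
  haveI : IsNoetherian (pullback x x) := {}
  have hI : Coh.IsCoh (IΔ x) := CurveCoh17.isCoh_idealMod _
  have hD : Coh.IsCoh (DΔ x) := M1.isCoh_cokernel hI.1 (M1.isCoh_structureModule _) _
  exact finite_homQuot (ιΔ x) (πΔ x) (cokernel.condition _)
    (ShortComplex.ShortExact.mk' (ShortComplex.exact_cokernel _) inferInstance inferInstance) hI hD

end Groth.Agent.DefDiag3
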