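import Groth.Agent.Lib.DefDiag3.Setup
import Groth.Agent.Lib.ModM1.Local
import Groth.Agent.Lib.TensorMod.IdealMod

/-!
# Local structure of the diagonal module
-/

set_option autoImplicit false
set_option linter.style.haveILetI false
set_option backward.isDefEq.respectTransparency false

universe u

open CategoryTheory CategoryTheory.Limits AlgebraicGeometry TopologicalSpace Opposite TensorProduct

noncomputable section

namespace Groth.Agent.DefDiag3

open Groth.Agent ArtFun ThickAff3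

/-- Base change along a surjection: the map is onto, with kernel `I • M`. -/
theorem surjective_and_ker_of_isBaseChange {R S M N : Type u} [CommRing R] [CommRing S] [Algebra R S]
    [AddCommGroup M] [AddCommGroup N] [Module R M] [Module R N] [Module S N] [IsScalarTower R S N]
    (hs : Function.Surjective (algebraMap R S)) (f : M →ₗ[R] N) (h : IsBaseChange S f) :
    Function.Surjective f ∧ ∀ m, f m = 0 → m ∈ RingHom.ker (algebraMap R S) • (⊤ : Submodule R M) := by
  refine ⟨fun n => ?_, fun m hm => ?_⟩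
  · induction n using IsTensorProduct.inductionOn h with
    | zero => exact ⟨0, map_zero f⟩
    | tmul c m =>
      obtain ⟨r, rfl⟩ := hs c
      exact ⟨r • m, by simp⟩
    | add a b ha hb =>
      obtain ⟨a', rfl⟩ := ha
      obtain ⟨b', rfl⟩ := hb
      exact ⟨a' + b', map_add f a' b'⟩
  · let I := RingHom.ker (algebraMap R S)
    let Q := M ⧸ I • (⊤ : Submodule R M)
    let e := (RingHom.quotientKerEquivOfSurjective hs).symm
    letI : Module S Q := Module.compHom Q e.toRingHom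
    haveI : IsScalarTower R S Q := IsScalarTower.of_algebraMap_smul fun r q => by
      show e (algebraMap R S r) • q = r • q
      rw [show e (algebraMap R S r) = Ideal.Quotient.mk I r from (RingEquiv.symm_apply_eq _).2 rfl]
      rfl
    have := h.lift_eq (Submodule.mkQ (I • (⊤ : Submodule R M))) m
    rw [hm, map_zero] at this
    exact (Submodule.Quotient.mk_eq_zero _).1 this.symm

variable {Λ k : Type u} [CommRing Λ] [Field k] [Algebra Λ k]
variable {X : Scheme.{u}} {x : X ⟶ Spec (CommRingCat.of k)} {A : Art Λ k}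
  [IsSeparated x] (s : Sct A) (ξ : DefSch X x A)

/-- The coefficient ring acting on `X ×ₖ T`. -/
abbrev sc (U : (P s ξ).Opens) : A →+* Γ(P s ξ, U) := str (diag s ξ).f U

theorem delta_f : delta s ξ ≫ (diag s ξ).f = x ≫ Art.specRes A := by
  show delta s ξ ≫ pullback.snd _ _ ≫ ξ.f = _
  rw [delta_snd_assoc, ξ.i_f]

theorem delta_app_sc (U : (P s ξ).Opens) (a : A) :
    (delta s ξ).app U (sc s ξ U a) = str x (delta s ξ ⁻¹ᵁ U) (A.res a) :=
  DefGlue3.app_str _ _ _ _ (delta_f s ξ) U a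

theorem j_app_sc (U : (P s ξ).Opens) (a : A) :
    (j s ξ).app U (sc s ξ U a) = str (pullback.snd x x ≫ x) (j s ξ ⁻¹ᵁ U) (A.res a) :=
  DefGlue3.app_str _ _ _ _ (diag s ξ).i_f U a

theorem exists_scSec (U : (P s ξ).Opens) (a : A) (ha : A.res a = 0) :
    ∃ κ, M2.idealIncl (delta s ξ).ker (U := U) κ = sc s ξ U a :=
  exists_incl_eq _ _ (by rw [delta_app_sc, ha, map_zero])

/-- An element of the maximal ideal as a section of the ideal of `δ`. -/
def scSec (U : (P s ξ).Opens) (a : A) (ha : A.res a = 0) : Γ(K s ξ, U) := (exists_scSec s ξ U a ha).choose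

theorem incl_scSec (U : (P s ξ).Opens) (a : A) (ha : A.res a = 0) :
    M2.idealIncl (delta s ξ).ker (scSec s ξ U a ha) = sc s ξ U a :=
  (exists_scSec s ξ U a ha).choose_spec

theorem mres_scSec {U V : (P s ξ).Opens} (h : V ≤ U) (a : A) (ha : A.res a = 0) :
    M1.mres (K s ξ) h (scSec s ξ U a ha) = scSec s ξ V a ha := by
  refine M2.idealIncl_injective _ _ ?_
  rw [incl_scSec]
  refine (M2.idealIncl_res _ h _).trans ?_
  rw [incl_scSec]
  exact res_str _ h a

/-- The morphism given by an element of the maximal ideal. -/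
def sig (a : A) (ha : A.res a = 0) : Coh.structureModule (pullback x x) ⟶ Emod s ξ :=
  M1.secHom (M := Emod s ξ) (eSec s ξ (scSec s ξ ⊤ a ha))

theorem sig_app_one (a : A) (ha : A.res a = 0) (U : (P s ξ).Opens) :
    (sig s ξ a ha).app (j s ξ ⁻¹ᵁ U) (M1.one _) = eSec s ξ (scSec s ξ U a ha) := by
  rw [← M1.mres_one (le_top : j s ξ ⁻¹ᵁ U ≤ ⊤), M1.app_mres, sig, M1.secHom_app_one,
    ← mres_scSec s ξ (le_top : U ≤ ⊤) a ha]
  exact (uSec_mres (j s ξ) (K s ξ) (le_top : U ≤ ⊤) _).symm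

theorem sig_app (a : A) (ha : A.res a = 0) (U : (P s ξ).Opens) (r : Γ(pullback x x, j s ξ ⁻¹ᵁ U)) :
    (sig s ξ a ha).app (j s ξ ⁻¹ᵁ U) r = r • eSec s ξ (scSec s ξ U a ha) := by
  refine Eq.trans (congrArg _ (show r = r • (1 : Γ(pullback x x, j s ξ ⁻¹ᵁ U)) from (mul_one r).symm)) ?_
  rw [← sig_app_one]
  exact Scheme.Modules.Hom.app_smul _ r (M1.one _)

/-- Every open is covered by traces of affine opens of `X ×ₖ T`. -/
theorem exists_basis {V : (pullback x x).Opens} {p : ↥(pullback x x)} (hp : p ∈ V) :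
    ∃ U : (P s ξ).Opens, IsAffineOpen U ∧ p ∈ j s ξ ⁻¹ᵁ U ∧ j s ξ ⁻¹ᵁ U ≤ V := by
  obtain ⟨O, hO, hOV⟩ := (j s ξ).isClosedEmbedding.isInducing.isOpen_iff.1 V.2
  have hp' : j s ξ p ∈ O := (Set.ext_iff.1 hOV p).2 hp
  obtain ⟨U, hU, hpU, hUO⟩ := exists_isAffineOpen_mem_and_subset (U := ⟨O, hO⟩) hp'
  exact ⟨U, hU, hpU, fun q hq => (Set.ext_iff.1 hOV q).1 (hUO hq)⟩

/-- Morphisms vanishing on the basis vanish. -/
theorem eq_zero_of_basis {M N : (pullback x x).Modules} (φ : M ⟶ N)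
    (h : ∀ U : (P s ξ).Opens, IsAffineOpen U → ∀ m : Γ(M, j s ξ ⁻¹ᵁ U), φ.app _ m = 0) : φ = 0 := by
  ext V m
  refine M1.section_ext _ _ fun p hp => ?_
  obtain ⟨U, hU, hpU, hUV⟩ := exists_basis s ξ hp
  rw [← M1.germ_mres N hUV hpU, ← M1.germ_mres N hUV hpU]
  refine congrArg (N.presheaf.germ _ p hpU) ?_
  refine ((M1.app_mres φ hUV m).symm.trans (h U hU _)).trans ?_
  exact (map_zero (N.presheaf.map (homOfLE hUV).op).hom).symm

variable {U : (P s ξ).Opens}

theorem j_app_surjective (hU : IsAffineOpen U) : Function.Surjective ((j s ξ).app U) :=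
  (j s ξ).app_surjective U hU

theorem ker_j_app (hU : IsAffineOpen U) :
    RingHom.ker ((j s ξ).app U).hom = (IsLocalRing.maximalIdeal A).map (sc s ξ U) :=
  DefGlue3.ker_i (diag s ξ) hU

theorem delta_app_eq (z : Γ(P s ξ, U)) :
    (delta s ξ).app U z = (pullback.diagonal x).app _ ((j s ξ).app U z) := rfl

theorem eSec_smul (r : Γ(P s ξ, U)) (a : Γ(K s ξ, U)) : eSec s ξ (r • a) = (j s ξ).app U r • eSec s ξ a :=
  uSec_smul _ _ r a

/-- The sections of the diagonal module over a trace of an affine open. -/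
theorem eSec_spec (hU : IsAffineOpen U) :
    Function.Surjective (eSec s ξ (U := U)) ∧ ∀ κ, eSec s ξ (U := U) κ = 0 →
      κ ∈ RingHom.ker ((j s ξ).app U).hom • (⊤ : Submodule Γ(P s ξ, U) Γ(K s ξ, U)) := by
  haveI : Coh.IsQCoh (K s ξ) := M2.isQCoh_idealMod _
  have hW : IsAffineOpen (j s ξ ⁻¹ᵁ U) := hU.preimage (j s ξ)
  have bc := PullSect12.isBC_unit (j s ξ) (K s ξ) hU hW le_rfl
  unfold PullBC11.IsBC at bc
  unfold Emod
  have e : ∀ κ : Γ(K s ξ, U),
      PullBC11.sect ((Scheme.Modules.pullbackPushforwardAdjunction (j s ξ)).unit.app (K s ξ)) le_rfl κ =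
        eSec s ξ κ := fun κ => M1.mres_id _ _ _
  letI := ((j s ξ).appLE U (j s ξ ⁻¹ᵁ U) le_rfl).hom.toAlgebra
  let E' := (Scheme.Modules.pullback (j s ξ)).obj (K s ξ)
  letI := PullBC11.baseModule (g := j s ξ) E' (le_refl (j s ξ ⁻¹ᵁ U))
  haveI : IsScalarTower Γ(P s ξ, U) Γ(pullback x x, j s ξ ⁻¹ᵁ U) Γ(E', j s ξ ⁻¹ᵁ U) :=
    IsScalarTower.of_algebraMap_smul fun _ _ => rfl
  have hs : Function.Surjective (algebraMap Γ(P s ξ, U) Γ(pullback x x, j s ξ ⁻¹ᵁ U)) := by
    show Function.Surjective ((j s ξ).appLE U (j s ξ ⁻¹ᵁ U) le_rfl).hom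
    rw [← Scheme.Hom.app_eq_appLE]
    exact j_app_surjective s ξ hU
  obtain ⟨h1, h2⟩ := surjective_and_ker_of_isBaseChange hs _ bc
  refine ⟨fun t => ?_, fun κ hκ => ?_⟩
  · obtain ⟨κ, hκ⟩ := h1 t
    exact ⟨κ, (e κ).symm.trans hκ⟩
  · have := h2 κ ((e κ).trans hκ)
    rwa [show RingHom.ker (algebraMap Γ(P s ξ, U) Γ(pullback x x, j s ξ ⁻¹ᵁ U)) =
      RingHom.ker ((j s ξ).app U).hom by rw [Scheme.Hom.app_eq_appLE]; rfl] at this

/-- Sections of the ideal of the diagonal lift. -/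
theorem exists_lift_IΔ (hU : IsAffineOpen U) (b : Γ(IΔ x, j s ξ ⁻¹ᵁ U)) :
    ∃ κ, (j s ξ).app U (M2.idealIncl (delta s ξ).ker (U := U) κ) = M2.idealIncl (pullback.diagonal x).ker b := by
  obtain ⟨z, hz⟩ := j_app_surjective s ξ hU (M2.idealIncl (pullback.diagonal x).ker b)
  obtain ⟨κ, hκ⟩ := exists_incl_eq (delta s ξ) z (by rw [delta_app_eq, hz, app_incl])
  exact ⟨κ, by rw [hκ, hz]⟩

instance epi_qE : Epi (qE s ξ) := by
  refine (M1.epi_iff_locally_surjective _).mpr fun V b p hp => ?_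
  obtain ⟨U, hU, hpU, hUV⟩ := exists_basis s ξ hp
  obtain ⟨κ, hκ⟩ := exists_lift_IΔ s ξ hU ((IΔ x).presheaf.map (homOfLE hUV).op b)
  exact ⟨_, hUV, hpU, eSec s ξ κ, M2.idealIncl_injective _ _ ((qE_eSec s ξ κ).trans hκ)⟩

theorem sig_comp_qE (a : A) (ha : A.res a = 0) : sig s ξ a ha ≫ qE s ξ = 0 := by
  refine eq_zero_of_basis s ξ _ fun U hU r => ?_
  show (qE s ξ).app _ ((sig s ξ a ha).app _ r) = 0
  rw [sig_app s ξ a ha U r]
  refine (Scheme.Modules.Hom.app_smul (qE s ξ) (show Γ(pullback x x, j s ξ ⁻¹ᵁ U) from r) _).trans ?_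
  rw [show (qE s ξ).app _ (eSec s ξ (scSec s ξ U a ha)) = 0 from M2.idealIncl_injective _ _ (by
    rw [qE_eSec, incl_scSec, j_app_sc, ha, map_zero]
    exact (map_zero ((ClSub.idealModι _).app _).hom).symm)]
  exact smul_zero (A := Γ(IΔ x, j s ξ ⁻¹ᵁ U)) (show Γ(pullback x x, j s ξ ⁻¹ᵁ U) from r)

theorem incl_comp_sig (a : A) (ha : A.res a = 0) :
    ClSub.idealModι (pullback.diagonal x).ker ≫ sig s ξ a ha = 0 := by
  refine eq_zero_of_basis s ξ _ fun U hU b => ?_
  show (sig s ξ a ha).app _ (M2.idealIncl (pullback.diagonal x).ker b) = 0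
  obtain ⟨κ, hκ⟩ := exists_lift_IΔ s ξ hU b
  rw [sig_app, ← hκ, ← eSec_smul, show M2.idealIncl (delta s ξ).ker κ • scSec s ξ U a ha = sc s ξ U a • κ from
    M2.idealIncl_injective _ _ (by rw [M2.idealIncl_smul, M2.idealIncl_smul, incl_scSec, mul_comm]),
    eSec_smul, j_app_sc, ha, map_zero, zero_smul]

variable (x) in
/-- The structure module of the diagonal. -/
abbrev DΔ : (pullback x x).Modules := cokernel (ClSub.idealModι (pullback.diagonal x).ker)

/-- The morphism `D → E` given by an element of the maximal ideal. -/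
def sE (a : A) (ha : A.res a = 0) : DΔ x ⟶ Emod s ξ :=
  cokernel.desc _ (sig s ξ a ha) (incl_comp_sig s ξ a ha)

@[reassoc (attr := simp)]
theorem π_sE (a : A) (ha : A.res a = 0) :
    cokernel.π (ClSub.idealModι (pullback.diagonal x).ker) ≫ sE s ξ a ha = sig s ξ a ha :=
  cokernel.π_desc _ _ _

theorem sE_comp_qE (a : A) (ha : A.res a = 0) : sE s ξ a ha ≫ qE s ξ = 0 := by
  rw [← cancel_epi (cokernel.π (ClSub.idealModι (pullback.diagonal x).ker)), π_sE_assoc, sig_comp_qE, comp_zero]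

/-- A morphism killing all `sE` factors through the ideal of the diagonal. -/
theorem exists_desc {N : (pullback x x).Modules} (φ : Emod s ξ ⟶ N)
    (h : ∀ a ha, sE s ξ a ha ≫ φ = 0) : ∃ d : IΔ x ⟶ N, qE s ξ ≫ d = φ := by
  have hz : kernel.ι (qE s ξ) ≫ φ = 0 := by
    refine eq_zero_of_basis s ξ _ fun U hU t => ?_
    show φ.app _ ((kernel.ι (qE s ξ)).app _ t) = 0
    obtain ⟨κ, hκ⟩ := (eSec_spec s ξ hU).1 ((kernel.ι (qE s ξ)).app _ t)
    have hq : (qE s ξ).app _ (eSec s ξ κ) = 0 := by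
      rw [hκ]
      exact congrArg (fun m : kernel (qE s ξ) ⟶ IΔ x => m.app _ t) (kernel.condition (qE s ξ))
    have hN : M2.idealIncl (delta s ξ).ker κ ∈ (IsLocalRing.maximalIdeal A).map (sc s ξ U) := by
      rw [← ker_j_app s ξ hU, RingHom.mem_ker]
      refine (qE_eSec s ξ κ).symm.trans ?_
      rw [hq]
      exact map_zero ((ClSub.idealModι _).app _).hom
    rw [← hκ]
    clear hκ hq
    suffices H : ∀ z ∈ (IsLocalRing.maximalIdeal A).map (sc s ξ U), ∃ κ' : Γ(K s ξ, U),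
        M2.idealIncl (delta s ξ).ker κ' = z ∧ φ.app _ (eSec s ξ κ') = 0 by
      obtain ⟨κ', h1, h2⟩ := H _ hN
      rwa [M2.idealIncl_injective _ _ h1] at h2
    intro z hz
    refine Submodule.span_induction ?_ ⟨0, ?_, ?_⟩ ?_ ?_ hz
    · rintro _ ⟨a, ha, rfl⟩
      have ha' : A.res a = 0 := RingHom.mem_ker.1 ((DefGlue3.ker_res A).ge ha)
      refine ⟨scSec s ξ U a ha', incl_scSec s ξ U a ha', ?_⟩
      have h0 : sig s ξ a ha' ≫ φ = 0 := by rw [← π_sE, Category.assoc, h, comp_zero]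
      rw [← sig_app_one s ξ a ha' U]
      exact congrArg (fun m : Coh.structureModule _ ⟶ N => m.app _ (M1.one _)) h0
    · exact map_zero ((ClSub.idealModι _).app U).hom
    · rw [eSec, uSec_zero]
      exact map_zero (φ.app _).hom
    · rintro z₁ z₂ - - ⟨κ₁, rfl, h₁⟩ ⟨κ₂, rfl, h₂⟩
      refine ⟨κ₁ + κ₂, M2.idealIncl_add _ κ₁ κ₂, ?_⟩
      rw [eSec, uSec_add]
      exact (map_add (φ.app _).hom _ _).trans (by rw [show φ.app _ (uSec _ _ κ₁) = 0 from h₁,
        show φ.app _ (uSec _ _ κ₂) = 0 from h₂, add_zero])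
    · rintro c z₁ - ⟨κ₁, rfl, h₁⟩
      exact ⟨c • κ₁, M2.idealIncl_smul _ c κ₁, by rw [eSec_smul, Scheme.Modules.Hom.app_smul, h₁, smul_zero]⟩
  exact ⟨Abelian.epiDesc (qE s ξ) φ hz, Abelian.comp_epiDesc _ _ _⟩

/-- For a principal maximal ideal with annihilator the maximal ideal, `sE` is injective. -/
theorem mono_sE (e : A) (he : A.res e = 0) (hgen : IsLocalRing.maximalIdeal A = Ideal.span {e})
    (hann : ∀ r, e * r = 0 → r ∈ IsLocalRing.maximalIdeal A) : Mono (sE s ξ e he) := by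
  refine (M1.mono_iff_app _).2 fun V => (injective_iff_map_eq_zero _).2 fun d hd => ?_
  refine M1.section_ext _ _ fun p hp => ?_
  let π₀ := cokernel.π (ClSub.idealModι (pullback.diagonal x).ker)
  obtain ⟨V', hV', hpV', r, hr⟩ := (M1.epi_iff_locally_surjective π₀).1 inferInstance V d p hp
  obtain ⟨U, hU, hpU, hUV⟩ := exists_basis s ξ hpV'
  rw [← M1.germ_mres _ (hUV.trans hV') hpU, ← M1.germ_mres _ (hUV.trans hV') hpU]
  congr 1
  let r' : Γ(pullback x x, j s ξ ⁻¹ᵁ U) := M1.mres (Coh.structureModule _) hUV r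
  have hd' : π₀.app _ r' = M1.mres (DΔ x) (hUV.trans hV') d := by
    rw [M1.app_mres, hr]
    exact M1.mres_mres _ _ _ d
  rw [← hd']
  suffices H : ∃ b, M2.idealIncl (pullback.diagonal x).ker b = r' by
    obtain ⟨b, hb⟩ := H
    rw [← hb]
    refine Eq.trans ?_ (map_zero ((DΔ x).presheaf.map (homOfLE (hUV.trans hV')).op).hom).symm
    exact congrArg (fun m : IΔ x ⟶ DΔ x => m.app _ b) (cokernel.condition _)
  have hz : (sig s ξ e he).app _ r' = 0 := by
    rw [← π_sE]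
    show (sE s ξ e he).app _ (π₀.app _ r') = 0
    rw [hd', M1.app_mres, hd]
    exact map_zero ((Emod s ξ).presheaf.map (homOfLE (hUV.trans hV')).op).hom
  obtain ⟨z, hzr⟩ := j_app_surjective s ξ hU r'
  rw [sig_app, ← hzr, ← eSec_smul] at hz
  have key : ∀ κ ∈ RingHom.ker ((j s ξ).app U).hom • (⊤ : Submodule Γ(P s ξ, U) Γ(K s ξ, U)),
      ∃ w, (delta s ξ).app U w = 0 ∧ M2.idealIncl (delta s ξ).ker κ = sc s ξ U e * w := by
    intro κ hκ
    refine Submodule.smul_induction_on hκ (fun n hn m _ => ?_) ?_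
    · rw [ker_j_app s ξ hU, hgen, Ideal.map_span, Set.image_singleton, Ideal.mem_span_singleton] at hn
      obtain ⟨c, rfl⟩ := hn
      refine ⟨c * M2.idealIncl (delta s ξ).ker m, ?_, ?_⟩
      · rw [map_mul, app_incl, mul_zero]
      · rw [M2.idealIncl_smul, mul_assoc]
    · rintro κ₁ κ₂ ⟨w₁, h1, e1⟩ ⟨w₂, h2, e2⟩
      exact ⟨w₁ + w₂, by rw [map_add, h1, h2, add_zero], by rw [M2.idealIncl_add, e1, e2, mul_add]⟩
  obtain ⟨w, hw, hw'⟩ := key _ ((eSec_spec s ξ hU).2 _ hz)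
  rw [M2.idealIncl_smul, incl_scSec, mul_comm] at hw'
  have hmem : z - w ∈ (IsLocalRing.maximalIdeal A).map (sc s ξ U) := by
    refine mem_map_of_str_mul_mem (diag s ξ).f hU ⊥ _ e (fun r hr => hann r ((Submodule.mem_bot _).1 hr)) ?_
    show sc s ξ U e * (z - w) ∈ _
    rw [mul_sub]
    exact (sub_eq_zero.2 hw').symm ▸ zero_mem _
  refine exists_incl_eq _ _ ?_
  rw [← hzr, ← delta_app_eq, show z = (z - w) + w from (sub_add_cancel z w).symm, map_add, hw, add_zero,
    delta_app_eq]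
  rw [show (j s ξ).app U (z - w) = 0 from RingHom.mem_ker.1 ((ker_j_app s ξ hU).ge hmem), map_zero]

end Groth.Agent.DefDiag3
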