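import Groth.Agent.Lib.DefDiag3.Retract

/-!
# Finiteness of the tangent space of the deformation functor of a proper scheme
-/

set_option autoImplicit false
set_option linter.style.haveILetI false
set_option linter.unusedSectionVars false
set_option backward.isDefEq.respectTransparency false

universe u

open CategoryTheory CategoryTheory.Limits AlgebraicGeometry

noncomputable section

namespace Groth.Agent.DefDiag3

open Groth.Agent ArtFun DefGlue3

variable {Λ k : Type u} [CommRing Λ] [Field k] [Algebra Λ k]
variable {X : Scheme.{u}} {x : X ⟶ Spec (CommRingCat.of k)} [IsSeparated x]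

/-- Deformations retracting onto the closed fibre are isomorphic. -/
theorem nonempty_iso_of_cls_eq_zero {ξ η : DefSch X x (Art.dual Λ k)} (hξ : cls ξ = 0) (hη : cls η = 0) :
    Nonempty (ξ.Iso η) := by
  haveI : Flat x := by
    haveI : Subsingleton (Spec (CommRingCat.of k)) := inferInstanceAs (Subsingleton (PrimeSpectrum k))
    infer_instance
  obtain ⟨r, hr⟩ := exists_retraction ξ hξ
  obtain ⟨r', hr'⟩ := exists_retraction η hη
  obtain ⟨ρ, hρi, hρx⟩ := exists_rho ξ hr
  obtain ⟨ρ', hρ'i, hρ'x⟩ := exists_rho η hr'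
  let σ : Art.spec (Art.dual Λ k) ⟶ Spec (CommRingCat.of k) := Spec.map (CommRingCat.ofHom (Sct.dual (Λ := Λ)).σ)
  let T₀ : DefSch X x (Art.dual Λ k) :=
    { total := pullback x σ
      f := pullback.snd x σ
      flat := inferInstance
      i := pullback.lift (𝟙 X) (x ≫ Art.specRes (Art.dual Λ k))
        (by rw [Category.id_comp, Category.assoc, specRes_σ, Category.comp_id])
      isPullback := by
        refine IsPullback.of_right ?_ (pullback.lift_snd _ _ _) (IsPullback.of_hasPullback x σ)
        rw [pullback.lift_fst, specRes_σ]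
        exact IsPullback.of_id_fst }
  have key : ∀ (ζ : DefSch X x (Art.dual Λ k)) (ρ : ζ.total ⟶ X), ζ.i ≫ ρ = 𝟙 X → ρ ≫ x = tT Sct.dual ζ →
      Nonempty (ζ.Iso T₀) := fun ζ ρ h1 h2 => by
    let d : ζ.total ⟶ T₀.total := pullback.lift ρ ζ.f h2
    have hf : d ≫ T₀.f = ζ.f := pullback.lift_snd _ _ _
    have hi : ζ.i ≫ d = T₀.i := by
      apply pullback.hom_ext
      · simp [d, T₀, h1]
      · simp [d, T₀, ζ.i_f]
    haveI := isIso_of_hom d hf hi
    exact ⟨⟨asIso d, hf, hi⟩⟩
  obtain ⟨e⟩ := key ξ ρ hρi hρx
  obtain ⟨e'⟩ := key η ρ' hρ'i hρ'x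
  exact ⟨e.trans e'.symm⟩

/-- The class is injective. -/
theorem clsLin_injective [TangentStr (defFunctor (Λ := Λ) X x)] :
    Function.Injective (clsLin (Λ := Λ) (x := x)) := by
  refine (injective_iff_map_eq_zero _).2 fun a ha => ?_
  have h0 : clsQ (TangentSpace.val (0 : TangentSpace (defFunctor (Λ := Λ) X x))) = (0 : Tgt x) :=
    map_zero (clsLin (Λ := Λ) (x := x))
  have key : ∀ a b : (defFunctor (Λ := Λ) X x).obj (Art.dual Λ k), clsQ a = 0 → clsQ b = 0 → a = b := by
    intro a b ha hb
    induction a using Quotient.inductionOn with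
    | h ξ =>
    induction b using Quotient.inductionOn with
    | h η => exact Quotient.sound (nonempty_iso_of_cls_eq_zero ha hb)
  exact key a.val _ ha h0

/-- The tangent space of the deformation functor of a proper scheme is finite-dimensional. -/
theorem hfin_of_isProper [IsProper x] [TangentStr (defFunctor (Λ := Λ) X x)] :
    Hfin (defFunctor (Λ := Λ) X x) := by
  haveI := finite_tgt (x := x) (k := k)
  exact Module.Finite.of_injective _ (clsLin_injective (Λ := Λ) (x := x))

end Groth.Agent.DefDiag3
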