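import Groth.Agent.Lib.DefDiag3.Cls
import Groth.Agent.Lib.Pinch4.Exists
import Groth.Agent.Lib.ModM1.QcohCrit

/-!
# A deformation with trivial class retracts onto the closed fibre
-/

set_option autoImplicit false
set_option linter.style.haveILetI false
set_option linter.unusedSectionVars false
set_option backward.isDefEq.respectTransparency false

universe u

open CategoryTheory CategoryTheory.Limits AlgebraicGeometry TopologicalSpace Opposite

noncomputable section

namespace Groth.Agent.DefDiag3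

open Groth.Agent ArtFun ThickAff3 DefGlue3

/-- Products of affine opens over an affine base are affine. -/
theorem isAffineOpen_prod {X Y S : Scheme.{u}} [IsAffine S] (f : X ⟶ S) (g : Y ⟶ S) {U : X.Opens}
    (hU : IsAffineOpen U) {V : Y.Opens} (hV : IsAffineOpen V) :
    IsAffineOpen (pullback.fst f g ⁻¹ᵁ U ⊓ pullback.snd f g ⁻¹ᵁ V) := by
  haveI : IsAffine (U : Scheme.{u}) := hU
  haveI : IsAffine (V : Scheme.{u}) := hV
  let m := pullback.map (U.ι ≫ f) (V.ι ≫ g) f g U.ι V.ι (𝟙 _) (Category.comp_id _) (Category.comp_id _)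
  convert isAffineOpen_opensRange m using 1
  ext1
  simp [m, Scheme.Pullback.range_map]

attribute [local instance] overYY

variable {Λ k : Type u} [CommRing Λ] [Field k] [Algebra Λ k]
variable {X : Scheme.{u}} {x : X ⟶ Spec (CommRingCat.of k)} [IsSeparated x]
variable (η : DefSch X x (Art.dual Λ k))

/-- The product chart of an open of the total space. -/
def prod (V : η.total.Opens) : (P Sct.dual η).Opens :=
  pullback.fst x (tT Sct.dual η) ⁻¹ᵁ (η.i ⁻¹ᵁ V) ⊓ pullback.snd x (tT Sct.dual η) ⁻¹ᵁ V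

theorem isAffineOpen_prodV {V : η.total.Opens} (hV : IsAffineOpen V) : IsAffineOpen (prod η V) :=
  isAffineOpen_prod x _ (hV.preimage η.i) hV

theorem delta_preimage_prod (V : η.total.Opens) : delta Sct.dual η ⁻¹ᵁ prod η V = η.i ⁻¹ᵁ V := by
  show delta Sct.dual η ⁻¹ᵁ (_ ⊓ _) = _
  rw [show ∀ U U', delta Sct.dual η ⁻¹ᵁ (U ⊓ U') = delta Sct.dual η ⁻¹ᵁ U ⊓ delta Sct.dual η ⁻¹ᵁ U' from
    fun _ _ => rfl, ← Scheme.Hom.comp_preimage (delta Sct.dual η) (pullback.fst x (tT Sct.dual η)),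
    ← Scheme.Hom.comp_preimage (delta Sct.dual η) (pullback.snd x (tT Sct.dual η)), delta_fst, delta_snd]
  exact inf_idem _

theorem prod_mono {V V' : η.total.Opens} (h : V' ≤ V) : prod η V' ≤ prod η V :=
  inf_le_inf (Scheme.Hom.preimage_mono _ (Scheme.Hom.preimage_mono _ h)) (Scheme.Hom.preimage_mono _ h)

/-- Functions of the closed fibre on the product chart. -/
def aL (V : η.total.Opens) : Γ(X, η.i ⁻¹ᵁ V) →+* Γ(P Sct.dual η, prod η V) :=
  ((pullback.fst x (tT Sct.dual η)).appLE _ _ inf_le_left).hom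

/-- Functions of the total space on the product chart. -/
def bL (V : η.total.Opens) : Γ(η.total, V) →+* Γ(P Sct.dual η, prod η V) :=
  ((pullback.snd x (tT Sct.dual η)).appLE _ _ inf_le_right).hom

/-- Restriction to the diagonal. -/
def dl (V : η.total.Opens) : Γ(P Sct.dual η, prod η V) →+* Γ(X, η.i ⁻¹ᵁ V) :=
  ((delta Sct.dual η).appLE _ _ (delta_preimage_prod η V).ge).hom

theorem appLE_comp_apply {A B C : Scheme.{u}} (f : A ⟶ B) (g : B ⟶ C) {h : A ⟶ C} (e : f ≫ g = h)
    (U : C.Opens) (V : B.Opens) (W : A.Opens) (h1 : V ≤ g ⁻¹ᵁ U) (h2 : W ≤ f ⁻¹ᵁ V) (h3 : W ≤ h ⁻¹ᵁ U) (z : Γ(C, U)) :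
    f.appLE V W h2 (g.appLE U V h1 z) = h.appLE U W h3 z := by
  subst e
  exact congrArg (fun m => m.hom z) (Scheme.Hom.appLE_comp_appLE f g U V W h1 h2)

theorem dl_aL (V : η.total.Opens) (u : Γ(X, η.i ⁻¹ᵁ V)) : dl η V (aL η V u) = u := by
  refine (appLE_comp_apply _ _ (delta_fst Sct.dual η) _ _ _ _ _ le_rfl u).trans ?_
  simp [Scheme.Hom.appLE]
  rfl

theorem dl_bL (V : η.total.Opens) (v : Γ(η.total, V)) : dl η V (bL η V v) = η.i.app V v := by
  refine (appLE_comp_apply _ _ (delta_snd Sct.dual η) _ _ _ _ _ le_rfl v).trans ?_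
  rw [Scheme.Hom.app_eq_appLE]

theorem bL_str (V : η.total.Opens) (a : Art.dual Λ k) :
    bL η V (str η.f V a) = sc Sct.dual η (prod η V) a := by
  show ((pullback.snd x (tT Sct.dual η)).appLE _ _ _).hom
    (((Scheme.ΓSpecIso _).inv ≫ η.f.appLE ⊤ V le_top).hom a) =
      ((Scheme.ΓSpecIso _).inv ≫ (pullback.snd x (tT Sct.dual η) ≫ η.f).appLE ⊤ _ le_top).hom a
  exact congrArg (fun m => m.hom ((Scheme.ΓSpecIso _).inv.hom a))
    (Scheme.Hom.appLE_comp_appLE (pullback.snd x (tT Sct.dual η)) η.f ⊤ V (prod η V) le_top inf_le_right)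

theorem dl_eq_zero_iff (V : η.total.Opens) (z : Γ(P Sct.dual η, prod η V)) :
    dl η V z = 0 ↔ (delta Sct.dual η).app (prod η V) z = 0 := by
  have hb := ConcreteCategory.bijective_of_isIso (X.presheaf.map (eqToHom (delta_preimage_prod η V).symm).op)
  have e : dl η V z = X.presheaf.map (eqToHom (delta_preimage_prod η V).symm).op
      ((delta Sct.dual η).app (prod η V) z) := rfl
  rw [e, map_eq_zero_iff _ hb.1]

theorem exists_K (V : η.total.Opens) (z : Γ(P Sct.dual η, prod η V)) (hz : dl η V z = 0) :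
    ∃ κ, M2.idealIncl (delta Sct.dual η).ker (U := prod η V) κ = z :=
  exists_incl_eq _ _ ((dl_eq_zero_iff η V z).1 hz)

variable (r : Emod Sct.dual η ⟶ DΔ x)

/-- The ideal of the retraction on a product chart. -/
def Jr (V : η.total.Opens) : Ideal Γ(P Sct.dual η, prod η V) where
  carrier := {z | ∃ κ, M2.idealIncl (delta Sct.dual η).ker (U := prod η V) κ = z ∧
    r.app _ (eSec Sct.dual η κ) = 0}
  add_mem' := by
    rintro _ _ ⟨κ₁, rfl, h₁⟩ ⟨κ₂, rfl, h₂⟩
    refine ⟨κ₁ + κ₂, M2.idealIncl_add _ κ₁ κ₂, ?_⟩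
    rw [show eSec Sct.dual η (κ₁ + κ₂) = eSec Sct.dual η κ₁ + eSec Sct.dual η κ₂ from uSec_add _ _ _ _]
    exact (map_add (r.app _).hom _ _).trans ((congrArg₂ (· + ·) h₁ h₂).trans (add_zero _))
  zero_mem' := ⟨0, map_zero ((ClSub.idealModι _).app _).hom, by
    rw [show eSec Sct.dual η (0 : Γ(K Sct.dual η, prod η V)) = 0 from uSec_zero _ _]
    exact map_zero (r.app _).hom⟩
  smul_mem' := by
    rintro c _ ⟨κ, rfl, h⟩
    refine ⟨c • κ, M2.idealIncl_smul _ c κ, ?_⟩
    rw [eSec_smul, Scheme.Modules.Hom.app_smul, h, smul_zero]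

variable {r} (hr : sE Sct.dual η eps res_eps ≫ r = 𝟙 _)

include hr in
theorem r_scSec (U : (P Sct.dual η).Opens) (c : Γ(P Sct.dual η, U)) :
    r.app _ (eSec Sct.dual η (c • scSec Sct.dual η U eps res_eps)) =
      (cokernel.π (ClSub.idealModι (pullback.diagonal x).ker)).app _ ((j Sct.dual η).app U c) := by
  rw [eSec_smul, ← sig_app Sct.dual η eps res_eps U, ← π_sE]
  show r.app _ ((sE Sct.dual η eps res_eps).app _
    ((cokernel.π (ClSub.idealModι (pullback.diagonal x).ker)).app _ ((j Sct.dual η).app U c))) = _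
  exact congrArg (fun m : DΔ x ⟶ DΔ x => m.app _ ((cokernel.π (ClSub.idealModι (pullback.diagonal x).ker)).app _
    ((j Sct.dual η).app U c))) hr

include hr in
theorem bijective_mk_bL (V : η.total.Opens) (hV : IsAffineOpen V) :
    Function.Bijective ((Ideal.Quotient.mk (Jr η r V)).comp (bL η V)) := by
  have hU := isAffineOpen_prodV η hV
  have hW : IsAffineOpen (j Sct.dual η ⁻¹ᵁ prod η V) := hU.preimage _
  let π₀ := cokernel.π (ClSub.idealModι (pullback.diagonal x).ker)
  have hi : Function.Surjective (η.i.app V) := η.i.app_surjective V hV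
  have hker : RingHom.ker (η.i.app V).hom = Ideal.span {str η.f V eps} := by
    rw [DefGlue3.ker_i η hV, maximalIdeal_dual, Ideal.map_span, Set.image_singleton]
  refine ⟨(injective_iff_map_eq_zero _).2 fun v hv => ?_, fun q => ?_⟩
  · obtain ⟨κ, hκ, hrκ⟩ := Ideal.Quotient.eq_zero_iff_mem.1 (show Ideal.Quotient.mk (Jr η r V) (bL η V v) = 0 from hv)
    have h0 : η.i.app V v = 0 := by
      rw [← dl_bL, dl_eq_zero_iff, ← hκ, app_incl]
    obtain ⟨c, rfl⟩ := Ideal.mem_span_singleton.1 (hker.le (RingHom.mem_ker.2 h0))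
    have hκ' : κ = bL η V c • scSec Sct.dual η (prod η V) eps res_eps := M2.idealIncl_injective _ _ (by
      rw [hκ, M2.idealIncl_smul, incl_scSec, map_mul, bL_str, mul_comm])
    rw [hκ', r_scSec η hr] at hrκ
    let S := ShortComplex.mk (ClSub.idealModι (pullback.diagonal x).ker) π₀ (cokernel.condition _)
    haveI : Mono S.f := inferInstanceAs (Mono (kernel.ι (ClSub.toSubscheme (pullback.diagonal x).ker)))
    obtain ⟨b, hb⟩ := M1.sections_exact (S := S)
      (h := ShortComplex.exact_cokernel _) _ ((j Sct.dual η).app (prod η V) (bL η V c)) hrκ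
    have hc : η.i.app V c = 0 := by
      rw [← dl_bL, dl_eq_zero_iff, delta_app_eq, ← hb]
      exact app_incl _ b
    obtain ⟨c', rfl⟩ := Ideal.mem_span_singleton.1 (hker.le (RingHom.mem_ker.2 hc))
    rw [← mul_assoc, ← map_mul, show (eps : Art.dual Λ k) * eps = 0 from TrivSqZeroExt.inr_mul_inr k (1 : k) 1,
      map_zero, zero_mul]
  · obtain ⟨z, rfl⟩ := Ideal.Quotient.mk_surjective q
    obtain ⟨v, hv⟩ := hi (dl η V z)
    obtain ⟨κ₀, hκ₀⟩ := exists_K η V (z - bL η V v) (by rw [map_sub, dl_bL, hv, sub_self])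
    haveI : Mono (ClSub.idealModι (pullback.diagonal x).ker) :=
      inferInstanceAs (Mono (kernel.ι (ClSub.toSubscheme (pullback.diagonal x).ker)))
    obtain ⟨t, ht⟩ := M1.app_surjective_affine_of_isQCoh (M1.isQCoh_structureModule _)
      (M1.isQCoh_cokernel (M2.isQCoh_idealMod _) (M1.isQCoh_structureModule _) _) π₀ hW
      (r.app _ (eSec Sct.dual η κ₀))
    obtain ⟨c', rfl⟩ := j_app_surjective Sct.dual η hU t
    obtain ⟨v', hv'⟩ := hi (dl η V c')
    obtain ⟨κ', hκ'⟩ := exists_K η V (c' - bL η V v') (by rw [map_sub, dl_bL, hv', sub_self])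
    refine ⟨v + str η.f V eps * v', ?_⟩
    refine (Ideal.Quotient.eq).2 ?_
    refine ⟨-(κ₀ - c' • scSec Sct.dual η (prod η V) eps res_eps +
      M2.idealIncl (delta Sct.dual η).ker κ' • scSec Sct.dual η (prod η V) eps res_eps), ?_, ?_⟩
    · have hn : ∀ a : Γ(K Sct.dual η, prod η V), M2.idealIncl (delta Sct.dual η).ker (-a) =
        -M2.idealIncl (delta Sct.dual η).ker a := fun a => map_neg ((ClSub.idealModι _).app _).hom a
      have hs : ∀ a b : Γ(K Sct.dual η, prod η V), M2.idealIncl (delta Sct.dual η).ker (a - b) =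
        M2.idealIncl (delta Sct.dual η).ker a - M2.idealIncl (delta Sct.dual η).ker b :=
        fun a b => map_sub ((ClSub.idealModι _).app _).hom a b
      rw [hn, M2.idealIncl_add, hs, M2.idealIncl_smul, M2.idealIncl_smul, incl_scSec, hκ₀, hκ', map_add, map_mul,
        bL_str]
      ring
    · rw [show ∀ a : Γ(K Sct.dual η, prod η V), eSec Sct.dual η (-a) = -eSec Sct.dual η a from
        fun a => map_neg (((Scheme.Modules.pullbackPushforwardAdjunction _).unit.app _).app _).hom a,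
        show ∀ a b : Γ(K Sct.dual η, prod η V), eSec Sct.dual η (a + b) = eSec Sct.dual η a + eSec Sct.dual η b from
          fun a b => uSec_add _ _ a b,
        show ∀ a b : Γ(K Sct.dual η, prod η V), eSec Sct.dual η (a - b) = eSec Sct.dual η a - eSec Sct.dual η b from
          fun a b => uSec_sub _ _ a b]
      refine (map_neg (r.app _).hom _).trans ?_
      rw [neg_eq_zero]
      refine (map_add (r.app _).hom _ _).trans ?_
      refine (congrArg₂ (· + ·) (map_sub (r.app _).hom _ _) rfl).trans ?_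
      rw [r_scSec η hr, r_scSec η hr, ht, sub_self, zero_add]
      obtain ⟨b, hb⟩ := exists_incl_eq (pullback.diagonal x) ((j Sct.dual η).app _ (M2.idealIncl _ κ'))
        (by rw [← delta_app_eq, app_incl])
      rw [← hb]
      exact congrArg (fun m : IΔ x ⟶ DΔ x => m.app _ b) (cokernel.condition _)

/-- The retraction on functions. -/
def rho (V : η.total.Opens) (hV : IsAffineOpen V) : Γ(X, η.i ⁻¹ᵁ V) →+* Γ(η.total, V) :=
  (RingEquiv.ofBijective _ (bijective_mk_bL η hr V hV)).symm.toRingHom.comp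
    ((Ideal.Quotient.mk (Jr η r V)).comp (aL η V))

theorem rho_mem (V : η.total.Opens) (hV : IsAffineOpen V) (u : Γ(X, η.i ⁻¹ᵁ V)) :
    aL η V u - bL η V (rho η hr V hV u) ∈ Jr η r V :=
  Ideal.Quotient.eq.1 ((RingEquiv.ofBijective _ (bijective_mk_bL η hr V hV)).apply_symm_apply
    (Ideal.Quotient.mk (Jr η r V) (aL η V u))).symm

theorem eq_of_mem (V : η.total.Opens) (hV : IsAffineOpen V) {u : Γ(X, η.i ⁻¹ᵁ V)} {v : Γ(η.total, V)}
    (h : aL η V u - bL η V v ∈ Jr η r V) : rho η hr V hV u = v :=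
  (bijective_mk_bL η hr V hV).1 (by
    show Ideal.Quotient.mk _ (bL η V _) = Ideal.Quotient.mk _ (bL η V v)
    rw [← Ideal.Quotient.eq.2 h, Ideal.Quotient.eq.2 (rho_mem η hr V hV u)])

theorem i_rho (V : η.total.Opens) (hV : IsAffineOpen V) (u : Γ(X, η.i ⁻¹ᵁ V)) :
    η.i.app V (rho η hr V hV u) = u := by
  obtain ⟨κ, hκ, -⟩ := rho_mem η hr V hV u
  have h := (dl_eq_zero_iff η V _).2 (hκ ▸ app_incl _ κ :
    (delta Sct.dual η).app (prod η V) (aL η V u - bL η V (rho η hr V hV u)) = 0)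
  rw [map_sub, dl_aL, dl_bL, sub_eq_zero] at h
  exact h.symm

theorem rho_str (V : η.total.Opens) (hV : IsAffineOpen V) (c : k) :
    rho η hr V hV (str x _ c) = str (tT Sct.dual η) V c := by
  refine eq_of_mem η hr V hV ?_
  have e1 : aL η V (str x _ c) = str (pullback.fst x (tT Sct.dual η) ≫ x) _ c :=
    appLE_str _ _ (RingHom.id k) _ (by rw [CommRingCat.ofHom_id, Spec.map_id, Category.comp_id]) _ _ _ c
  have e2 : bL η V (str (tT Sct.dual η) V c) = str (pullback.fst x (tT Sct.dual η) ≫ x) _ c :=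
    appLE_str _ _ (RingHom.id k) _ (by rw [CommRingCat.ofHom_id, Spec.map_id, Category.comp_id, pullback.condition]) _ _ _ c
  rw [e1, e2, sub_self]
  exact zero_mem _

theorem rho_res {V V' : η.total.Opens} (hV : IsAffineOpen V) (hV' : IsAffineOpen V') (h : V' ≤ V)
    (u : Γ(X, η.i ⁻¹ᵁ V)) :
    η.total.presheaf.map (homOfLE h).op (rho η hr V hV u) =
      rho η hr V' hV' (X.presheaf.map (homOfLE (η.i.preimage_mono h)).op u) := by
  symm
  refine eq_of_mem η hr V' hV' ?_
  obtain ⟨κ, hκ, hrκ⟩ := rho_mem η hr V hV u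
  refine ⟨M1.mres _ (prod_mono η h) κ, ?_, ?_⟩
  · refine (M2.idealIncl_res _ (prod_mono η h) κ).trans ?_
    rw [hκ, map_sub]
    refine congrArg₂ (· - ·) ?_ ?_
    · exact congrArg (fun m => m.hom u) ((Scheme.Hom.appLE_map (pullback.fst x (tT Sct.dual η)) (inf_le_left : prod η V ≤ _)
        (homOfLE (prod_mono η h)).op).trans (Scheme.Hom.map_appLE (pullback.fst x (tT Sct.dual η))
          (inf_le_left : prod η V' ≤ _) (homOfLE (η.i.preimage_mono h)).op).symm)
    · exact congrArg (fun m => m.hom (rho η hr V hV u)) ((Scheme.Hom.appLE_map (pullback.snd x (tT Sct.dual η))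
        (inf_le_right : prod η V ≤ _) (homOfLE (prod_mono η h)).op).trans (Scheme.Hom.map_appLE
          (pullback.snd x (tT Sct.dual η)) (inf_le_right : prod η V' ≤ _) (homOfLE h).op).symm)
  · rw [show eSec Sct.dual η (M1.mres _ (prod_mono η h) κ) =
      M1.mres _ ((j Sct.dual η).preimage_mono (prod_mono η h)) (eSec Sct.dual η κ) from uSec_mres _ _ _ _,
      M1.app_mres, hrκ]
    exact map_zero ((DΔ x).presheaf.map (homOfLE ((j Sct.dual η).preimage_mono (prod_mono η h))).op).hom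

/-- The retraction on an affine chart. -/
def rhoHom (V : η.total.Opens) (hV : IsAffineOpen V) : V.toScheme ⟶ X :=
  V.toSpecΓ ≫ Spec.map (CommRingCat.ofHom (rho η hr V hV)) ≫ (hV.preimage η.i).fromSpec

theorem rhoHom_res {V V' : η.total.Opens} (hV : IsAffineOpen V) (hV' : IsAffineOpen V') (h : V' ≤ V) :
    η.total.homOfLE h ≫ rhoHom η hr V hV = rhoHom η hr V' hV' := by
  rw [rhoHom, rhoHom, ← Category.assoc, ← Scheme.Opens.toSpecΓ_SpecMap_presheaf_map _ _ h,
    ← (hV.preimage η.i).map_fromSpec (hV'.preimage η.i) (homOfLE (η.i.preimage_mono h)).op]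
  simp only [Category.assoc, ← Spec.map_comp_assoc]
  congr 3
  ext u
  exact rho_res η hr hV hV' h u

theorem i_rhoHom (V : η.total.Opens) (hV : IsAffineOpen V) :
    η.i ∣_ V ≫ rhoHom η hr V hV = (η.i ⁻¹ᵁ V).ι := by
  have e : η.i ∣_ V ≫ V.toSpecΓ = (η.i ⁻¹ᵁ V).toSpecΓ ≫ Spec.map (η.i.app V) := by
    rw [Scheme.Hom.app_eq_appLE, Scheme.Opens.toSpecΓ_SpecMap_appLE, Scheme.Hom.resLE_eq_morphismRestrict]
  rw [rhoHom, reassoc_of% e, ← Spec.map_comp_assoc,
    show CommRingCat.ofHom (rho η hr V hV) ≫ η.i.app V = 𝟙 _ from CommRingCat.hom_ext (RingHom.ext (i_rho η hr V hV)),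
    Spec.map_id]
  exact IsAffineOpen.toSpecΓ_fromSpec (hV.preimage η.i)

theorem rhoHom_over (V : η.total.Opens) (hV : IsAffineOpen V) :
    rhoHom η hr V hV ≫ x = V.ι ≫ tT Sct.dual η := by
  have e1 : (hV.preimage η.i).fromSpec ≫ x = Spec.map (CommRingCat.ofHom (str x (η.i ⁻¹ᵁ V))) := by
    have := IsAffineOpen.SpecMap_appLE_fromSpec x (isAffineOpen_top _) (hV.preimage η.i) le_top
    rw [← this, IsAffineOpen.fromSpec_top]
    simp [str, Spec.map_comp, Scheme.isoSpec_Spec_inv]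
  rw [rhoHom, Category.assoc, Category.assoc, e1, ← Spec.map_comp,
    show CommRingCat.ofHom (str x (η.i ⁻¹ᵁ V)) ≫ CommRingCat.ofHom (rho η hr V hV) =
      CommRingCat.ofHom (str (tT Sct.dual η) V) from CommRingCat.hom_ext (RingHom.ext (rho_str η hr V hV))]
  have e2 : hV.fromSpec ≫ tT Sct.dual η = Spec.map (CommRingCat.ofHom (str (tT Sct.dual η) V)) := by
    have := IsAffineOpen.SpecMap_appLE_fromSpec (tT Sct.dual η) (isAffineOpen_top _) hV le_top
    rw [← this, IsAffineOpen.fromSpec_top]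
    simp [str, Spec.map_comp, Scheme.isoSpec_Spec_inv]
  rw [← e2, IsAffineOpen.toSpecΓ_fromSpec_assoc]

include hr in
/-- The retraction. -/
theorem exists_rho : ∃ ρ : η.total ⟶ X, η.i ≫ ρ = 𝟙 X ∧ ρ ≫ x = tT Sct.dual η := by
  obtain ⟨G, hG⟩ := Pinch4.exists_glue_opens (fun V : η.total.affineOpens => V.1)
    (iSup_affineOpens_eq_top _) (fun V => rhoHom η hr V.1 V.2) fun V V' p hp hp' => by
      obtain ⟨W, hW, hpW, hWle⟩ := exists_isAffineOpen_mem_and_subset (U := V.1 ⊓ V'.1) (x := p) ⟨hp, hp'⟩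
      refine ⟨W, hpW, fun q hq => (hWle hq).1, fun q hq => (hWle hq).2, ?_⟩
      rw [rhoHom_res η hr V.2 hW, rhoHom_res η hr V'.2 hW]
  refine ⟨G, ?_, ?_⟩
  · refine Scheme.hom_ext_of_forall _ _ fun q => ?_
    obtain ⟨V, hV, hqV, -⟩ := exists_isAffineOpen_mem_and_subset (U := ⊤) (x := η.i q) trivial
    refine ⟨η.i ⁻¹ᵁ V, hqV, ?_⟩
    rw [← Category.assoc, ← morphismRestrict_ι, Category.assoc, hG ⟨V, hV⟩, i_rhoHom, Category.comp_id]
  · refine Scheme.hom_ext_of_forall _ _ fun q => ?_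
    obtain ⟨V, hV, hqV, -⟩ := exists_isAffineOpen_mem_and_subset (U := ⊤) (x := q) trivial
    exact ⟨V, hqV, by rw [← Category.assoc, hG ⟨V, hV⟩, rhoHom_over]⟩

end Groth.Agent.DefDiag3
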