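import Groth.Agent.Lib.ConormalBC19.Basic
import Groth.Agent.Lib.PullSect12.Basic
import Groth.Agent.Lib.DefGlue3.Criteria
import Groth.Agent.Lib.DefGlue3.Sections
import Groth.Agent.Lib.ArtFun.Tangent

/-!
# The diagonal module of a first order deformation

For a deformation `T` of `X` over `A` with a section `k → A`, the closed immersion `δ = (1, i) : X → X ×ₖ T`
restricted to `X ×ₖ X` gives a module `E = j^* (ideal of δ)`, an extension of the ideal of the diagonal.
-/

set_option autoImplicit false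
set_option linter.style.haveILetI false
set_option backward.isDefEq.respectTransparency false

universe u

open CategoryTheory CategoryTheory.Limits AlgebraicGeometry TopologicalSpace Opposite

noncomputable section

namespace Groth.Agent.DefDiag3

open Groth.Agent ArtFun ThickAff3

section general

variable {Z W : Scheme.{u}} (f : Z ⟶ W)

/-- A section pulled back along `f`. -/
def uSec (M : W.Modules) {U : W.Opens} (a : Γ(M, U)) : Γ((Scheme.Modules.pullback f).obj M, f ⁻¹ᵁ U) :=
  ((Scheme.Modules.pullbackPushforwardAdjunction f).unit.app M).app U a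

theorem uSec_add (M : W.Modules) {U : W.Opens} (a b : Γ(M, U)) : uSec f M (a + b) = uSec f M a + uSec f M b :=
  map_add (((Scheme.Modules.pullbackPushforwardAdjunction f).unit.app M).app U).hom a b

theorem uSec_sub (M : W.Modules) {U : W.Opens} (a b : Γ(M, U)) : uSec f M (a - b) = uSec f M a - uSec f M b :=
  map_sub (((Scheme.Modules.pullbackPushforwardAdjunction f).unit.app M).app U).hom a b

theorem uSec_zero (M : W.Modules) {U : W.Opens} : uSec f M (0 : Γ(M, U)) = 0 :=
  map_zero (((Scheme.Modules.pullbackPushforwardAdjunction f).unit.app M).app U).hom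

theorem uSec_smul (M : W.Modules) {U : W.Opens} (r : Γ(W, U)) (a : Γ(M, U)) :
    uSec f M (r • a) = f.app U r • uSec f M a :=
  Scheme.Modules.Hom.app_smul _ r a

theorem uSec_mres (M : W.Modules) {U V : W.Opens} (h : V ≤ U) (a : Γ(M, U)) :
    uSec f M (M1.mres M h a) = M1.mres _ (f.preimage_mono h) (uSec f M a) :=
  ((M1.app_mres ((Scheme.Modules.pullbackPushforwardAdjunction f).unit.app M) h a)).trans rfl

/-- Morphisms out of a pullback agree if they agree on pulled back sections. -/
theorem hom_ext_uSec {M : W.Modules} {N : Z.Modules} {φ φ' : (Scheme.Modules.pullback f).obj M ⟶ N}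
    (h : ∀ (U : W.Opens) (a : Γ(M, U)), φ.app (f ⁻¹ᵁ U) (uSec f M a) = φ'.app (f ⁻¹ᵁ U) (uSec f M a)) : φ = φ' := by
  refine ((Scheme.Modules.pullbackPushforwardAdjunction f).homEquiv _ _).injective ?_
  ext U a
  rw [Adjunction.homEquiv_unit, Adjunction.homEquiv_unit]
  exact h U a

theorem psi_uSec (I : W.IdealSheafData) (I' : Z.IdealSheafData) (h : I ≤ I'.map f) {U : W.Opens}
    (a : Γ(ClSub.idealMod I, U)) :
    M2.idealIncl I' ((ConormalBC19.psi f I I' h).app (f ⁻¹ᵁ U) (uSec f _ a)) = f.app U (M2.idealIncl I a) := by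
  have h1 : (ConormalBC19.psi f I I' h ≫ ClSub.idealModι I').app (f ⁻¹ᵁ U) (uSec f _ a) =
      (ConormalBC19.phi0 f I).app (f ⁻¹ᵁ U) (uSec f _ a) := by
    rw [ConormalBC19.psi_comp]
  have h2 : ((Scheme.Modules.pullbackPushforwardAdjunction f).homEquiv _ _ (ConormalBC19.phi0 f I)).app U a =
      (ClSub.idealModι I ≫ ClSub.unitToPush f).app U a := by
    rw [ConormalBC19.phi0, Equiv.apply_symm_apply]
  rw [Adjunction.homEquiv_unit] at h2
  exact h1.trans h2

theorem exists_incl_eq [IsClosedImmersion f] {U : W.Opens} (s : Γ(W, U)) (hs : f.app U s = 0) :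
    ∃ a, M2.idealIncl f.ker (U := U) a = s := by
  refine M2.exists_idealIncl_eq f.ker s ?_
  have h := ConormalBC19.app_eq_zero_of_eq f.toImage_imageι.symm hs
  rw [Scheme.Hom.comp_app, CommRingCat.comp_apply] at h
  exact (ConcreteCategory.bijective_of_isIso (f.toImage.app (f.imageι ⁻¹ᵁ U))).1 (h.trans (map_zero _).symm)

theorem app_incl [IsClosedImmersion f] {U : W.Opens} (a : Γ(ClSub.idealMod f.ker, U)) :
    f.app U (M2.idealIncl f.ker a) = 0 := by
  refine ConormalBC19.app_eq_zero_of_eq f.toImage_imageι ?_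
  rw [Scheme.Hom.comp_app, CommRingCat.comp_apply]
  exact (congrArg _ (M2.subschemeι_app_idealIncl f.ker a)).trans (map_zero _)

end general

variable {Λ k : Type u} [CommRing Λ] [Field k] [Algebra Λ k]

/-- A section of the residue map. -/
structure Sct (A : Art Λ k) : Type u where
  σ : k →+* A
  res_σ : ∀ c, A.res (σ c) = c

/-- The section of `k ⊕ kⁿ`. -/
def Sct.tn (n : ℕ) : Sct (ArtFunLib.tn Λ k n) := ⟨TrivSqZeroExt.inlHom k (Fin n → k), fun _ => rfl⟩

/-- The section of `k[ε]`. -/
def Sct.dual : Sct (Art.dual Λ k) := ⟨TrivSqZeroExt.inlHom k k, fun _ => rfl⟩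

variable {X : Scheme.{u}} {x : X ⟶ Spec (CommRingCat.of k)} {A B : Art Λ k}

/-- The total space as a scheme over `k`. -/
def tT (s : Sct A) (ξ : DefSch X x A) : ξ.total ⟶ Spec (CommRingCat.of k) :=
  ξ.f ≫ Spec.map (CommRingCat.ofHom s.σ)

theorem specRes_σ (s : Sct A) : Art.specRes A ≫ Spec.map (CommRingCat.ofHom s.σ) = 𝟙 _ := by
  show Spec.map _ ≫ _ = _
  rw [← Spec.map_comp, ← Spec.map_id]
  exact congrArg Spec.map (CommRingCat.hom_ext (RingHom.ext s.res_σ))

@[reassoc]
theorem i_tT (s : Sct A) (ξ : DefSch X x A) : ξ.i ≫ tT s ξ = x := by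
  rw [tT, ← Category.assoc, ξ.i_f, Category.assoc, specRes_σ, Category.comp_id]

variable (s : Sct A) (ξ : DefSch X x A)

/-- `X ×ₖ T`. -/
abbrev P : Scheme.{u} := pullback x (tT s ξ)

/-- `1 × i : X ×ₖ X → X ×ₖ T`. -/
def j : pullback x x ⟶ P s ξ :=
  pullback.map x x x (tT s ξ) (𝟙 _) ξ.i (𝟙 _) (by simp) (by simp [i_tT])

@[reassoc (attr := simp)]
theorem j_fst : j s ξ ≫ pullback.fst _ _ = pullback.fst x x := by simp [j]

@[reassoc (attr := simp)]
theorem j_snd : j s ξ ≫ pullback.snd _ _ = pullback.snd x x ≫ ξ.i := by simp [j]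

/-- `X ×ₖ T` as a deformation of `X ×ₖ X`. -/
def diag : DefSch (pullback x x) (pullback.snd x x ≫ x) A where
  total := P s ξ
  f := pullback.snd _ _ ≫ ξ.f
  flat := by
    haveI : Flat x := by
      haveI : Subsingleton (Spec (CommRingCat.of k)) := inferInstanceAs (Subsingleton (PrimeSpectrum k))
      infer_instance
    haveI : Flat (pullback.snd x (tT s ξ)) := MorphismProperty.pullback_snd _ _ inferInstance
    infer_instance
  i := j s ξ
  isPullback := by
    refine IsPullback.paste_vert ?_ ξ.isPullback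
    refine IsPullback.of_right ?_ (j_snd s ξ) ((IsPullback.of_hasPullback x (tT s ξ)).flip).flip |>.flip |>.flip
    rw [j_fst, i_tT]
    exact IsPullback.of_hasPullback x x

instance : IsClosedImmersion (j s ξ) := DefGlue3.isClosedImmersion_i (diag s ξ)

variable [IsSeparated x]

/-- `δ = (1, i)`. -/
def delta : X ⟶ P s ξ := pullback.diagonal x ≫ j s ξ

instance : IsClosedImmersion (delta s ξ) := by
  unfold delta
  infer_instance

@[reassoc (attr := simp)]
theorem delta_fst : delta s ξ ≫ pullback.fst _ _ = 𝟙 X := by simp [delta]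

@[reassoc (attr := simp)]
theorem delta_snd : delta s ξ ≫ pullback.snd _ _ = ξ.i := by simp [delta]

variable (x) in
/-- The ideal of the diagonal, as a module. -/
abbrev IΔ : (pullback x x).Modules := ClSub.idealMod (pullback.diagonal x).ker

theorem le_map : (delta s ξ).ker ≤ (pullback.diagonal x).ker.map (j s ξ) :=
  (Scheme.Hom.ker_comp _ _).le

/-- The ideal of `δ`, as a module. -/
abbrev K : (P s ξ).Modules := ClSub.idealMod (delta s ξ).ker

/-- The diagonal module. -/
def Emod : (pullback x x).Modules := (Scheme.Modules.pullback (j s ξ)).obj (K s ξ)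

/-- The projection to the ideal of the diagonal. -/
def qE : Emod s ξ ⟶ IΔ x := ConormalBC19.psi (j s ξ) _ _ (le_map s ξ)

/-- A pulled back section. -/
def eSec {U : (P s ξ).Opens} (a : Γ(K s ξ, U)) : Γ(Emod s ξ, j s ξ ⁻¹ᵁ U) := uSec (j s ξ) _ a

theorem qE_eSec {U : (P s ξ).Opens} (a : Γ(K s ξ, U)) :
    M2.idealIncl (pullback.diagonal x).ker ((qE s ξ).app _ (eSec s ξ a)) =
      (j s ξ).app U (M2.idealIncl (delta s ξ).ker a) :=
  psi_uSec _ _ _ _ a

end Groth.Agent.DefDiag3
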